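import Groth.Agent.Az8.Split

set_option autoImplicit false
universe u

open scoped TensorProduct

namespace Groth.Agent.Az8

variable {R : Type u} [CommRing R] {A : Type u} [Ring A] [Algebra R A]

theorem pos_of_rank [IsAzumaya R A] {n : ℕ} (hrk : ∀ p : PrimeSpectrum R, Module.rankAtStalk (R := R) A p = n ^ 2)
    (p : PrimeSpectrum R) : 0 < n := by
  refine Nat.pos_of_ne_zero fun h => ?_
  have h0 := hrk p
  rw [h, zero_pow two_ne_zero, Module.rankAtStalk_eq_zero_iff_notMem_support] at h0
  refine h0 ?_
  rw [Module.support_eq_zeroLocus, PrimeSpectrum.mem_zeroLocus]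
  intro c hc
  rw [SetLike.mem_coe, Module.mem_annihilator] at hc
  have : c = 0 := eq_of_smul_eq_smul fun a : A => by rw [hc a, zero_smul]
  rw [this]; exact zero_mem _

theorem rank_of_split {n r : ℕ} [IsAzumaya R A] (hrk : ∀ p : PrimeSpectrum R, Module.rankAtStalk (R := R) A p = n ^ 2)
    {S : Type u} [CommRing S] [Algebra R S] [Nontrivial S] (e : (S ⊗[R] A) ≃ₐ[S] Matrix (Fin r) (Fin r) S) : r = n := by
  obtain ⟨q, hq⟩ := Ideal.exists_maximal S
  let P : PrimeSpectrum S := ⟨q, hq.isPrime⟩
  have h := Module.rankAtStalk_baseChange (R := R) (M := A) P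
  rw [hrk, Module.rankAtStalk_eq_of_equiv e.toLinearEquiv, Module.rankAtStalk_eq_finrank_of_free, Pi.natCast_apply,
    Module.finrank_matrix, Fintype.card_fin, Module.finrank_self, mul_one] at h
  exact Nat.pow_left_injective two_ne_zero (show r ^ 2 = n ^ 2 by rw [pow_two]; exact_mod_cast h)

/-- a faithfully flat splitting -/
theorem exists_cover [IsAzumaya R A] {n : ℕ} (hrk : ∀ p : PrimeSpectrum R, Module.rankAtStalk (R := R) A p = n ^ 2) :
    ∃ (S : Type u) (_ : CommRing S) (_ : Algebra R S),
      Module.FaithfullyFlat R S ∧ Nonempty ((S ⊗[R] A) ≃ₐ[S] Matrix (Fin n) (Fin n) S) := by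
  classical
  choose f hf R' i1 i2 i3 i4 hfin het hff r hr hiso using fun p : PrimeSpectrum R => exists_split (A := A) p.asIdeal
  have htop : Ideal.span (Set.range f) = ⊤ := by
    by_contra h
    obtain ⟨m, hm, hle⟩ := Ideal.exists_le_maximal _ h
    exact hf ⟨m, hm.isPrime⟩ (hle (Ideal.subset_span ⟨⟨m, hm.isPrime⟩, rfl⟩))
  obtain ⟨T, hT1, hT2⟩ := Submodule.mem_span_finite_of_mem_span ((Ideal.eq_top_iff_one _).mp htop)
  choose pr hpr using fun t : T => hT1 t.2
  letI : ∀ t : T, CommRing (R' (pr t)) := fun t => i1 _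
  letI : ∀ t : T, Algebra R (R' (pr t)) := fun t => i2 _
  have hnt : ∀ t : T, Nontrivial (R' (pr t)) := fun t => by
    letI := i3 (pr t)
    haveI := hff (pr t)
    haveI : Nontrivial (Localization.Away (f (pr t))) :=
      (IsLocalization.Away.lift (f (pr t)) (g := algebraMap R (Localization.AtPrime (pr t).asIdeal))
        (IsLocalization.map_units (Localization.AtPrime (pr t).asIdeal) (⟨_, hf (pr t)⟩ : (pr t).asIdeal.primeCompl)) :
          Localization.Away (f (pr t)) →+* Localization.AtPrime (pr t).asIdeal).domain_nontrivial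
    exact Function.Injective.nontrivial (f := algebraMap (Localization.Away (f (pr t))) (R' (pr t)))
      (FaithfulSMul.algebraMap_injective (Localization.Away (f (pr t))) (R' (pr t)))
  haveI hflat : ∀ t : T, Module.Flat R (R' (pr t)) := fun t => by
    letI := i3 (pr t)
    haveI := i4 (pr t)
    haveI := hff (pr t)
    haveI : Module.Flat R (Localization.Away (f (pr t))) := IsLocalization.flat _ (Submonoid.powers (f (pr t)))
    exact Module.Flat.trans R (Localization.Away (f (pr t))) _
  haveI : Module.Flat R (∀ t : T, R' (pr t)) := Module.Flat.of_linearEquiv (DFinsupp.linearEquivFunOnFintype (R := R)).symm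
  haveI : Module.FaithfullyFlat R (∀ t : T, R' (pr t)) := by
    refine Module.FaithfullyFlat.of_comap_surjective fun P => ?_
    obtain ⟨t, ht⟩ : ∃ t : T, f (pr t) ∉ P.asIdeal := by
      by_contra! h
      exact P.2.ne_top ((Ideal.eq_top_iff_one _).mpr (Submodule.span_le.mpr (fun x hx => by rw [← show f (pr ⟨x, hx⟩) = x from hpr ⟨x, hx⟩]; exact h _) hT2))
    letI := i3 (pr t)
    haveI := i4 (pr t)
    haveI := hff (pr t)
    obtain ⟨Q, hQ⟩ : P ∈ Set.range (PrimeSpectrum.comap (algebraMap R (Localization.Away (f (pr t))))) := by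
      rw [PrimeSpectrum.localization_away_comap_range (Localization.Away (f (pr t))) (f (pr t))]
      exact ht
    obtain ⟨Q', hQ'⟩ := PrimeSpectrum.comap_surjective_of_faithfullyFlat (B := R' (pr t)) Q
    refine ⟨Q'.comap (Pi.evalRingHom (fun t : T => R' (pr t)) t), ?_⟩
    rw [← PrimeSpectrum.comap_comp_apply, ← hQ, ← hQ', ← PrimeSpectrum.comap_comp_apply]
    congr 1
    rw [← IsScalarTower.algebraMap_eq]
    rfl
  have hiso' : ∀ t : T, Nonempty ((R' (pr t) ⊗[R] A) ≃ₐ[R' (pr t)] Matrix (Fin n) (Fin n) (R' (pr t))) := fun t => by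
    haveI := hnt t
    obtain ⟨e⟩ := hiso (pr t)
    obtain rfl := rank_of_split hrk e
    exact ⟨e⟩
  let e := fun t => (hiso' t).some
  let rep : A →ₐ[R] Matrix (Fin n) (Fin n) (∀ t : T, R' (pr t)) :=
    { toFun := fun a => Matrix.of fun i j => fun t => e t ((1 : R' (pr t)) ⊗ₜ[R] a) i j
      map_one' := by
        ext i j t
        rcases eq_or_ne i j with rfl | h
        · simp [← Algebra.TensorProduct.one_def]
        · simp [← Algebra.TensorProduct.one_def, h]
      map_mul' := fun a b => by
        ext i j t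
        have : e t ((1 : R' (pr t)) ⊗ₜ[R] (a * b)) = e t (1 ⊗ₜ a) * e t (1 ⊗ₜ b) := by
          rw [← map_mul, Algebra.TensorProduct.tmul_mul_tmul, one_mul]
        simp [this, Matrix.mul_apply]
      map_zero' := by ext i j t; simp
      map_add' := fun a b => by ext i j t; simp [TensorProduct.tmul_add]
      commutes' := fun c => by
        ext i j t
        have : e t ((1 : R' (pr t)) ⊗ₜ[R] algebraMap R A c) = algebraMap R _ c := by
          rw [show (1 : R' (pr t)) ⊗ₜ[R] algebraMap R A c = algebraMap (R' (pr t)) _ (algebraMap R (R' (pr t)) c) by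
            rw [Algebra.TensorProduct.algebraMap_apply, Algebra.algebraMap_self_apply, Algebra.algebraMap_eq_smul_one,
              Algebra.algebraMap_eq_smul_one, TensorProduct.tmul_smul, TensorProduct.smul_tmul'],
            AlgEquiv.commutes, ← IsScalarTower.algebraMap_apply]
        rcases eq_or_ne i j with rfl | h
        · simp [this, Matrix.algebraMap_matrix_apply]
        · simp [this, Matrix.algebraMap_matrix_apply, h] }
  let Φ : (∀ t : T, R' (pr t)) ⊗[R] A →ₐ[(∀ t : T, R' (pr t))] Matrix (Fin n) (Fin n) (∀ t : T, R' (pr t)) :=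
    Algebra.TensorProduct.lift (Algebra.ofId (∀ t : T, R' (pr t)) _) rep (fun x y => Algebra.commutes x _)
  have hΦ : ∀ (z : (∀ t : T, R' (pr t)) ⊗[R] A) i j t, Φ z i j t = e t (TensorProduct.piLeft (R := R) (N := A) (M := fun t : T => R' (pr t)) z t) i j := by
    intro z i j t
    induction z using TensorProduct.induction_on with
    | zero => simp
    | tmul c a =>
      rw [show Φ (c ⊗ₜ[R] a) = algebraMap (∀ t : T, R' (pr t)) _ c * rep a from Algebra.TensorProduct.lift_tmul _ _ _ c a, ← Algebra.smul_def,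
        Matrix.smul_apply, smul_eq_mul, Pi.mul_apply]
      rw [show TensorProduct.piLeft (R := R) (N := A) (M := fun t : T => R' (pr t)) (c ⊗ₜ[R] a) t = c t • ((1 : R' (pr t)) ⊗ₜ[R] a) by
        simp [TensorProduct.smul_tmul'], map_smul, Matrix.smul_apply, smul_eq_mul]
      rfl
    | add a b ha hb => simp only [map_add, Matrix.add_apply, Pi.add_apply, ha, hb]
  refine ⟨(∀ t : T, R' (pr t)), inferInstance, inferInstance, inferInstance, ⟨AlgEquiv.ofBijective Φ ⟨fun a b hab => ?_, fun M => ?_⟩⟩⟩
  · apply (TensorProduct.piLeft (R := R) (N := A) (M := fun t : T => R' (pr t))).injective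
    funext t
    apply (e t).injective
    ext i j
    rw [← hΦ, ← hΦ, hab]
  · refine ⟨(TensorProduct.piLeft (R := R) (N := A) (M := fun t : T => R' (pr t))).symm fun t => (e t).symm (Matrix.of fun i j => M i j t), ?_⟩
    ext i j t
    rw [hΦ, LinearEquiv.apply_symm_apply, AlgEquiv.apply_symm_apply]
    rfl

end Groth.Agent.Az8
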