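import Mathlib

set_option autoImplicit false
universe u

open Polynomial

namespace Groth.Agent.Az8

variable {R : Type u} [CommRing R]

theorem etale_adjoinRoot {p : Polynomial R} (hp : p.Monic)
    (h : IsUnit (aeval (AdjoinRoot.root p) (derivative p))) : Algebra.Etale R (AdjoinRoot p) := by
  obtain ⟨w, hw⟩ := h
  obtain ⟨q, hq⟩ := AdjoinRoot.mk_surjective (↑w⁻¹ : AdjoinRoot p)
  have h1 : AdjoinRoot.mk p (derivative p * q - 1) = 0 := by
    rw [map_sub, map_mul, map_one, hq, ← AdjoinRoot.aeval_eq, ← hw, Units.mul_inv, sub_self]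
  obtain ⟨c, hc⟩ := AdjoinRoot.mk_eq_zero.mp h1
  let P : StandardEtalePair R := ⟨p, hp, 1, q, -c, 0, by rw [pow_zero]; linear_combination hc⟩
  let e1 := P.equivAwayAdjoinRoot
  have hu : IsUnit (AdjoinRoot.mk P.f P.g) := by
    show IsUnit (AdjoinRoot.mk p 1); rw [map_one]; exact isUnit_one
  let e2 : AdjoinRoot p ≃ₐ[R] Localization.Away (AdjoinRoot.mk P.f P.g) :=
    (IsLocalization.atUnit (R := AdjoinRoot P.f) (S := Localization.Away (AdjoinRoot.mk P.f P.g))
      (AdjoinRoot.mk P.f P.g) hu).restrictScalars R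
  exact Algebra.Etale.of_equiv (e1.trans e2.symm)

theorem isUnit_derivative [IsLocalRing R] {p : Polynomial R} (hp : p.Monic)
    (h : (p.map (algebraMap R (IsLocalRing.ResidueField R))).Separable) :
    IsUnit (aeval (AdjoinRoot.root p) (derivative p)) := by
  haveI := hp.finite_adjoinRoot
  set d := aeval (AdjoinRoot.root p) (derivative p)
  suffices htop : (⊤ : Submodule R (AdjoinRoot p)) ≤ LinearMap.range (LinearMap.mulLeft R d) by
    obtain ⟨y, hy⟩ := htop (x := 1) trivial
    exact IsUnit.of_mul_eq_one y hy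
  refine Submodule.le_of_le_smul_of_le_jacobson_bot Module.Finite.fg_top
    (IsLocalRing.maximalIdeal_le_jacobson _) ?_
  intro z _
  obtain ⟨a, b, hab⟩ := h
  obtain ⟨b', rfl⟩ := Polynomial.map_surjective (algebraMap R (IsLocalRing.ResidueField R))
    IsLocalRing.residue_surjective b
  obtain ⟨a', rfl⟩ := Polynomial.map_surjective (algebraMap R (IsLocalRing.ResidueField R))
    IsLocalRing.residue_surjective a
  rw [derivative_map, ← Polynomial.map_mul, ← Polynomial.map_mul, ← Polynomial.map_add] at hab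
  set e : Polynomial R := a' * p + b' * derivative p - 1
  have he : ∀ i, e.coeff i ∈ IsLocalRing.maximalIdeal R := fun i => by
    rw [← IsLocalRing.residue_eq_zero_iff, ← IsLocalRing.ResidueField.algebraMap_eq, ← coeff_map,
      show e = a' * p + b' * derivative p - 1 from rfl, Polynomial.map_sub, hab, Polynomial.map_one, sub_self, coeff_zero]
  have hev : aeval (AdjoinRoot.root p) e = aeval (AdjoinRoot.root p) b' * d - 1 := by
    simp [e, d, AdjoinRoot.eval₂_root]
  refine Submodule.mem_sup.mpr ⟨d * (aeval (AdjoinRoot.root p) b' * z), ⟨_, rfl⟩, -(aeval (AdjoinRoot.root p) e * z), ?_, ?_⟩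
  · refine neg_mem ?_
    rw [aeval_eq_sum_range, Finset.sum_mul]
    refine sum_mem fun i _ => ?_
    rw [smul_mul_assoc]
    exact Submodule.smul_mem_smul (he i) trivial
  · rw [hev]; ring

end Groth.Agent.Az8
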