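import Groth.Agent.Az8.TPow
import Groth.Agent.Az8.Ideal
import Groth.Agent.Az8.Charpoly
import Groth.Agent.CSA.AzumayaDescent

set_option autoImplicit false
universe u v

open scoped TensorProduct

namespace Groth.Agent.Az8

variable {R : Type u} [CommRing R] {A : Type u} [Ring A] [Algebra R A] {S : Type u} [CommRing S] [Algebra R S] {n : ℕ}

/-- the matrix of an element in a splitting -/
noncomputable def repR (φ : (S ⊗[R] A) ≃ₐ[S] Matrix (Fin n) (Fin n) S) : A →ₐ[R] Matrix (Fin n) (Fin n) S :=
  (φ.restrictScalars R).toAlgHom.comp Algebra.TensorProduct.includeRight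

lemma repR_apply (φ : (S ⊗[R] A) ≃ₐ[S] Matrix (Fin n) (Fin n) S) (a : A) : repR φ a = φ (1 ⊗ₜ a) := rfl

/-- entries of `A ⊗ A` in a splitting -/
noncomputable def entR (φ : (S ⊗[R] A) ≃ₐ[S] Matrix (Fin n) (Fin n) S) (i j l m : Fin n) : A ⊗[R] A →ₗ[R] S :=
  TensorProduct.lift ((LinearMap.mul R S).compl₁₂
    ((Matrix.entryLinearMap R S i j).comp (repR φ).toLinearMap)
    ((Matrix.entryLinearMap R S l m).comp (repR φ).toLinearMap))

lemma entR_tmul (φ : (S ⊗[R] A) ≃ₐ[S] Matrix (Fin n) (Fin n) S) (i j l m : Fin n) (a b : A) :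
    entR φ i j l m (a ⊗ₜ b) = repR φ a i j * repR φ b l m := by
  simp [entR]

variable (φ : (S ⊗[R] A) ≃ₐ[S] Matrix (Fin n) (Fin n) S)

theorem exists_swapR [Module.FaithfullyFlat R S] [IsAzumaya R A] :
    ∃ g : A ⊗[R] A, ∀ i j l m : Fin n, entR φ i j l m g = if i = m ∧ j = l then 1 else 0 := by
  classical
  choose t ht using fun a => trace_descends φ a
  have hinj : Function.Injective (algebraMap R S) := FaithfulSMul.algebraMap_injective R S
  let T : Module.End R A :=
    { toFun := fun a => t a • (1 : A)
      map_add' := fun a b => by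
        rw [← add_smul]; congr 1; exact hinj (by rw [map_add, ht, ht, ht, TensorProduct.tmul_add, map_add, Matrix.trace_add])
      map_smul' := fun r a => by
        rw [RingHom.id_apply, smul_smul]; congr 1
        exact hinj (by rw [map_mul, ht, ht, ← repR_apply, ← repR_apply, map_smul, Matrix.trace_smul, Algebra.smul_def]) }
  obtain ⟨w, hw⟩ := (IsAzumaya.AlgHom.mulLeftRight_bij R A).2 T
  let g : A ⊗[R] A := (TensorProduct.congr (LinearEquiv.refl R A) (MulOpposite.opLinearEquiv R).symm) w
  have key : ∀ (G : A ⊗[R] Aᵐᵒᵖ) (x : A) (i m : Fin n),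
      repR φ (AlgHom.mulLeftRight R A G x) i m = ∑ j, ∑ l, repR φ x j l *
        entR φ i j l m ((TensorProduct.congr (LinearEquiv.refl R A) (MulOpposite.opLinearEquiv R).symm) G) := by
    intro G x i m
    induction G using TensorProduct.induction_on with
    | zero => simp
    | tmul a b =>
      rw [AlgHom.mulLeftRight_apply, map_mul, map_mul, Matrix.mul_apply]
      simp only [Matrix.mul_apply, Finset.sum_mul, TensorProduct.congr_tmul, LinearEquiv.refl_apply, entR_tmul]
      rw [Finset.sum_comm]
      refine Finset.sum_congr rfl fun j _ => Finset.sum_congr rfl fun l _ => ?_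
      simp [MulOpposite.opLinearEquiv]
      ring
    | add p q hp hq =>
      simp only [map_add, LinearMap.add_apply, Matrix.add_apply, hp, hq, mul_add, Finset.sum_add_distrib]
  refine ⟨g, fun i j l m => ?_⟩
  have hall : ∀ z : S ⊗[R] A, ∑ j, ∑ l, φ z j l * entR φ i j l m g = if i = m then (φ z).trace else 0 := by
    intro z
    induction z using TensorProduct.induction_on with
    | zero => simp
    | tmul c a =>
      rw [show c ⊗ₜ[R] a = c • ((1 : S) ⊗ₜ[R] a) by rw [TensorProduct.smul_tmul', smul_eq_mul, mul_one], map_smul]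
      have h1 := key w a i m
      rw [hw] at h1
      change repR φ (t a • (1 : A)) i m = _ at h1
      rw [map_smul, map_one] at h1
      simp only [← repR_apply, Matrix.smul_apply, smul_eq_mul, mul_assoc, ← Finset.mul_sum, g, ← h1, Matrix.trace_smul]
      rw [Matrix.one_apply]
      split_ifs with him
      · rw [Algebra.smul_def, mul_one, ht]; rfl
      · rw [smul_zero, mul_zero]
    | add p q hp hq =>
      simp only [map_add, Matrix.add_apply, add_mul, Finset.sum_add_distrib, hp, hq, Matrix.trace_add]
      split_ifs <;> simp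
  have h2 := hall (φ.symm (Matrix.single j l 1))
  rw [φ.apply_symm_apply] at h2
  rw [Finset.sum_eq_single j (fun a _ ha => Finset.sum_eq_zero fun b _ => by simp [Matrix.single, Ne.symm ha])
    (by simp), Finset.sum_eq_single l (fun b _ hb => by simp [Matrix.single, Ne.symm hb]) (by simp)] at h2
  rw [show (Matrix.single j l (1 : S)) j l = 1 by simp, one_mul] at h2
  rw [h2]
  by_cases hjl : j = l
  · subst hjl; simp [Matrix.trace_single_eq_same]
  · simp [Matrix.trace_single_eq_of_ne _ _ _ hjl, hjl]

/-- the representation of `A^{⊗n}` on `(S^n)^{⊗n}` -/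
noncomputable def prepR (φ : (S ⊗[R] A) ≃ₐ[S] Matrix (Fin n) (Fin n) S) :
    (⨂[R] _ : Fin n, A) →ₐ[R] Matrix (Fin n → Fin n) (Fin n → Fin n) S :=
  PiTensorProduct.liftAlgHom
    (MultilinearMap.pi fun f : Fin n → Fin n => MultilinearMap.pi fun h : Fin n → Fin n =>
      (MultilinearMap.mkPiAlgebra R (Fin n) S).compLinearMap fun l =>
        (Matrix.entryLinearMap R S (f l) (h l)).comp (repR φ).toLinearMap)
    (by
      funext f h
      show ∏ l, repR φ 1 (f l) (h l) = (1 : Matrix (Fin n → Fin n) (Fin n → Fin n) S) f h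
      rw [map_one, Matrix.one_apply]
      by_cases hfh : f = h
      · subst hfh; simp
      · rw [if_neg hfh]
        obtain ⟨l, hl⟩ := Function.ne_iff.mp hfh
        exact Finset.prod_eq_zero (Finset.mem_univ l) (by rw [Matrix.one_apply_ne hl]))
    (fun a b => by
      funext f h
      show ∏ l, repR φ (a l * b l) (f l) (h l) = ∑ g : Fin n → Fin n, (∏ l, repR φ (a l) (f l) (g l)) * ∏ l, repR φ (b l) (g l) (h l)
      simp only [map_mul, Matrix.mul_apply, ← Finset.prod_mul_distrib]
      rw [Fintype.prod_sum])

lemma prepR_tprod (a : Fin n → A) (f h : Fin n → Fin n) :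
    prepR φ (PiTensorProduct.tprod R a) f h = ∏ l, repR φ (a l) (f l) (h l) := by
  simp [prepR]
  rfl

variable (S) in
/-- permutation matrices -/
def permS (σ : Equiv.Perm (Fin n)) : Matrix (Fin n → Fin n) (Fin n → Fin n) S :=
  Matrix.of fun f h => if f ∘ σ = h then 1 else 0

lemma permS_mul (σ τ : Equiv.Perm (Fin n)) : permS S σ * permS S τ = permS S (σ * τ) := by
  classical
  ext f h
  rw [Matrix.mul_apply, Finset.sum_eq_single (f ∘ σ)]
  · simp [permS, Function.comp_assoc]
    try exact if_congr Iff.rfl rfl rfl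
  · intro g _ hg; simp [permS, Ne.symm hg]
  · simp

theorem permS_mem [Module.FaithfullyFlat R S] [IsAzumaya R A] (σ : Equiv.Perm (Fin n)) :
    permS S σ ∈ (prepR φ).range := by
  classical
  induction σ using Equiv.Perm.swap_induction_on with
  | one =>
    refine ⟨1, (map_one _).trans ?_⟩
    ext f h; simp [permS, Matrix.one_apply]
  | swap_mul τ x y hxy ih =>
    rw [← permS_mul]
    refine mul_mem ?_ ih
    obtain ⟨g, hg⟩ := exists_swapR φ
    have hcomm : ∀ a b : A, Commute (PiTensorProduct.singleAlgHom (R := R) (A := fun _ : Fin n => A) x a)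
        (PiTensorProduct.singleAlgHom (R := R) (A := fun _ : Fin n => A) y b) := fun a b =>
      Commute.tprod (Pi.mulSingle_commute (f := fun _ : Fin n => A) hxy a b)
    refine ⟨Algebra.TensorProduct.lift _ _ hcomm g, ?_⟩
    ext f h
    show prepR φ (Algebra.TensorProduct.lift _ _ hcomm g) f h = _
    have key : ∀ G : A ⊗[R] A, prepR φ (Algebra.TensorProduct.lift _ _ hcomm G) f h =
        (∏ l ∈ (Finset.univ.erase x).erase y, if f l = h l then (1 : S) else 0) * entR φ (f x) (h x) (f y) (h y) G := by
      intro G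
      induction G using TensorProduct.induction_on with
      | zero => simp
      | tmul a b =>
        rw [Algebra.TensorProduct.lift_tmul, PiTensorProduct.singleAlgHom_apply, PiTensorProduct.singleAlgHom_apply,
          PiTensorProduct.tprod_mul_tprod, prepR_tprod, entR_tmul,
          ← Finset.mul_prod_erase _ _ (Finset.mem_univ x),
          ← Finset.mul_prod_erase (Finset.univ.erase x) _ (a := y) (Finset.mem_erase.mpr ⟨hxy.symm, Finset.mem_univ y⟩)]
        rw [Finset.prod_congr rfl (g := fun l => if f l = h l then (1 : S) else 0) (s₂ := (Finset.univ.erase x).erase y)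
          fun l hl => by
            rw [Finset.mem_erase, Finset.mem_erase] at hl
            simp [Pi.mul_apply, Pi.mulSingle_eq_of_ne hl.1, Pi.mulSingle_eq_of_ne hl.2.1, Matrix.one_apply]]
        simp [Pi.mul_apply, Pi.mulSingle_eq_of_ne hxy, Pi.mulSingle_eq_of_ne hxy.symm]
        ring
      | add p q hp hq => simp only [map_add, Matrix.add_apply, hp, hq, mul_add]
    rw [key, hg, Finset.prod_boole]
    simp only [permS, Matrix.of_apply, ite_zero_mul, one_mul]
    by_cases hfh : f ∘ Equiv.swap x y = h
    · subst hfh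
      rw [if_pos (fun l hl => by
        rw [Finset.mem_erase, Finset.mem_erase] at hl
        simp [Equiv.swap_apply_of_ne_of_ne hl.2.1 hl.1]), if_pos (by simp), if_pos rfl]
    · rw [if_neg hfh]
      split_ifs with h1 h2 <;> try rfl
      refine absurd (funext fun l => ?_) hfh
      rcases eq_or_ne l x with rfl | hlx
      · simp [h2.2]
      rcases eq_or_ne l y with rfl | hly
      · simp [h2.1]
      · simpa [Equiv.swap_apply_of_ne_of_ne hlx hly] using h1 l (by simp [hlx, hly])

lemma antiS_eq : (∑ σ : Equiv.Perm (Fin n), (Equiv.Perm.sign σ : ℤ) • permS S σ) =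
    Matrix.vecMulVec (fun f => (Matrix.of fun i l : Fin n => if f i = l then (1 : S) else 0).det)
      (fun h => (Matrix.of fun i l : Fin n => if h i = l then (1 : S) else 0).det) := by
  classical
  ext f h
  rw [Matrix.vecMulVec_apply, ← Matrix.det_transpose (Matrix.of fun i l : Fin n => if h i = l then (1 : S) else 0),
    ← Matrix.det_mul]
  have hM : (Matrix.of fun i l : Fin n => if f i = l then (1 : S) else 0) *
      (Matrix.of fun i l : Fin n => if h i = l then (1 : S) else 0).transpose =
      Matrix.of fun i j : Fin n => if f i = h j then (1 : S) else 0 := by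
    ext i j
    rw [Matrix.mul_apply, Finset.sum_eq_single (f i)]
    · simp [eq_comm]
    · intro b _ hb; simp [Ne.symm hb]
    · simp
  rw [hM, Matrix.det_apply, Matrix.sum_apply]
  refine Finset.sum_congr rfl fun σ _ => ?_
  simp only [Matrix.smul_apply, permS, Matrix.of_apply, Finset.prod_boole, Units.smul_def]
  congr 1
  by_cases hh : f ∘ σ = h
  · subst hh; simp
  · rw [if_neg hh, if_neg (fun h' => hh (funext fun i => h' i (Finset.mem_univ i)))]

variable (R) in
/-- base change of endomorphisms of a finite projective module -/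
theorem endBaseChange_bijective (S : Type u) [CommRing S] [Algebra R S] (E : Type u) [AddCommGroup E] [Module R E]
    [Module.Finite R E] [Module.Projective R E] :
    Function.Bijective (LinearMap.tensorProductEnd R S E) := by
  obtain ⟨n, x, g, hg⟩ := CSA.Azumaya.exists_dualBasis R E
  let T : Fin n → E →ₗ[R] Module.End R E := fun i => LinearMap.smulRightₗ (g i)
  let Ψ : Module.End S (S ⊗[R] E) →ₗ[S] S ⊗[R] Module.End R E :=
    ∑ i, (T i).baseChange S ∘ₗ LinearMap.applyₗ ((1 : S) ⊗ₜ[R] x i)
  have hΨ : ∀ F, Ψ F = ∑ i, (T i).baseChange S (F (1 ⊗ₜ[R] x i)) := fun F => by simp [Ψ]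
  have htmul : ∀ (s : S) (f : Module.End R E), LinearMap.tensorProductEnd R S E (s ⊗ₜ[R] f) = s • f.baseChange S :=
    fun _ _ => rfl
  constructor
  · intro a b hab
    have key : ∀ ξ, Ψ (LinearMap.tensorProductEnd R S E ξ) = ξ := by
      intro ξ
      induction ξ using TensorProduct.induction_on with
      | zero => simp
      | tmul s f =>
        rw [hΨ]
        have : ∀ i, (T i).baseChange S (LinearMap.tensorProductEnd R S E (s ⊗ₜ[R] f) (1 ⊗ₜ[R] x i))
            = s ⊗ₜ[R] ((g i).smulRight (f (x i))) := fun i => by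
          rw [htmul]; simp [T, TensorProduct.smul_tmul', LinearMap.smulRightₗ]
        simp only [this, ← TensorProduct.tmul_sum]
        congr 1
        ext a
        conv_rhs => rw [← hg a, map_sum]
        simp
      | add a b ha hb => rw [map_add, map_add, ha, hb]
    rw [← key a, ← key b, hab]
  · intro F
    refine ⟨Ψ F, ?_⟩
    refine TensorProduct.AlgebraTensorModule.ext fun s a => ?_
    have key : ∀ i (y : S ⊗[R] E), LinearMap.tensorProductEnd R S E ((T i).baseChange S y)
        (s ⊗ₜ[R] a) = (g i a • s) • y := by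
      intro i y
      induction y using TensorProduct.induction_on with
      | zero => simp
      | tmul t b =>
        rw [LinearMap.baseChange_tmul, htmul]
        simp [T, LinearMap.smulRightₗ, TensorProduct.smul_tmul', TensorProduct.tmul_smul, mul_comm]
      | add u v hu hv => rw [map_add, map_add, LinearMap.add_apply, hu, hv, smul_add]
    rw [hΨ]
    simp only [map_sum, LinearMap.sum_apply, key]
    have : s ⊗ₜ[R] a = ∑ i, (g i a • s) • ((1 : S) ⊗ₜ[R] x i) := by
      conv_lhs => rw [← hg a, TensorProduct.tmul_sum]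
      refine Finset.sum_congr rfl fun i _ => ?_
      rw [TensorProduct.smul_tmul', TensorProduct.tmul_smul, smul_eq_mul, mul_one,
        TensorProduct.smul_tmul']
    conv_rhs => rw [this, map_sum]
    exact Finset.sum_congr rfl fun i _ => by rw [map_smul]

include φ in
theorem tpow_end [Module.FaithfullyFlat R S] [IsAzumaya R A] [Nonempty (Fin n)] :
    ∃ (E : Type u) (_ : AddCommGroup E) (_ : Module R E), Module.Finite R E ∧ Module.Projective R E ∧
      (∀ p : PrimeSpectrum R, Module.rankAtStalk (R := R) E p = n ^ n) ∧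
      Nonempty ((⨂[R] _ : Fin n, A) ≃ₐ[R] Module.End R E) := by
  classical
  haveI : IsAzumaya R (⨂[R] _ : Fin n, A) := tp_azumaya R A n
  haveI : IsAzumaya S (S ⊗[R] (⨂[R] _ : Fin n, A)) := CSA.Azumaya.baseChange R S (⨂[R] _ : Fin n, A)
  haveI : Nonempty (Fin n → Fin n) := ⟨id⟩
  let F : S ⊗[R] (⨂[R] _ : Fin n, A) →ₐ[S] Matrix (Fin n → Fin n) (Fin n → Fin n) S :=
    Algebra.TensorProduct.lift (Algebra.ofId S _) (prepR φ) (fun c x => Algebra.commutes c (prepR φ x))
  have hFt : ∀ c x, F (c ⊗ₜ[R] x) = c • prepR φ x := fun c x =>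
    (Algebra.TensorProduct.lift_tmul _ _ _ c x).trans (Algebra.smul_def c (prepR φ x)).symm
  have hFinj : Function.Injective F := hom_injective F (fun a b hab => by
    simpa [Matrix.algebraMap_matrix_apply] using congrFun (congrFun hab id) id)
  have hFsurj : Function.Surjective F := by
    obtain ⟨m, p, ψd, hp⟩ := CSA.Azumaya.exists_dualBasis R A
    have hspan : ∀ X : Matrix (Fin n) (Fin n) S, ∃ c : Fin m → S, ∑ j, c j • repR φ (p j) = X := by
      intro X
      obtain ⟨z, rfl⟩ := φ.surjective X
      induction z using TensorProduct.induction_on with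
      | zero => exact ⟨0, by simp⟩
      | tmul c a =>
        refine ⟨fun j => c * algebraMap R S (ψd j a), ?_⟩
        rw [show c ⊗ₜ[R] a = c • ((1 : S) ⊗ₜ[R] a) by rw [TensorProduct.smul_tmul', smul_eq_mul, mul_one], map_smul]
        conv_rhs => rw [← repR_apply, ← hp a, map_sum, Finset.smul_sum]
        exact Finset.sum_congr rfl fun j _ => by rw [map_smul, mul_smul, algebraMap_smul]
      | add a b ha hb =>
        obtain ⟨c, hc⟩ := ha
        obtain ⟨d, hd⟩ := hb
        exact ⟨c + d, by simp only [Pi.add_apply, add_smul, Finset.sum_add_distrib, hc, hd, map_add]⟩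
    have hsingle : ∀ f h : Fin n → Fin n, Matrix.single f h (1 : S) ∈ F.range := by
      intro f h
      choose c hc using fun l => hspan (Matrix.single (f l) (h l) (1 : S))
      refine ⟨∑ r : Fin n → Fin m, (∏ l, c l (r l)) ⊗ₜ[R] PiTensorProduct.tprod R (fun l => p (r l)), ?_⟩
      show F _ = _
      rw [map_sum]
      ext f' h'
      simp only [hFt, Matrix.sum_apply, Matrix.smul_apply, prepR_tprod, smul_eq_mul, ← Finset.prod_mul_distrib]
      rw [← Fintype.prod_sum (fun l j => c l j * repR φ (p j) (f' l) (h' l))]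
      have : ∀ l, ∑ j, c l j * repR φ (p j) (f' l) (h' l) = Matrix.single (f l) (h l) (1 : S) (f' l) (h' l) := fun l => by
        rw [← hc l, Matrix.sum_apply]; simp [Matrix.smul_apply]
      simp only [this, Matrix.single_apply]
      rw [Finset.prod_boole]
      split_ifs with H1 H2 H2
      · rfl
      · exact absurd ⟨funext fun l => (H1 l (Finset.mem_univ l)).1, funext fun l => (H1 l (Finset.mem_univ l)).2⟩ H2
      · exact absurd (fun l _ => ⟨congrFun H2.1 l, congrFun H2.2 l⟩) H1
      · rfl
    intro M
    have : M ∈ F.range := by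
      rw [Matrix.matrix_eq_sum_single M]
      refine sum_mem fun f _ => sum_mem fun h _ => ?_
      rw [show Matrix.single f h (M f h) = M f h • Matrix.single f h (1 : S) by simp]
      exact Subalgebra.smul_mem _ (hsingle f h) _
    exact this
  obtain ⟨ε, hε⟩ : ∃ ε, prepR φ ε = ∑ σ : Equiv.Perm (Fin n), (Equiv.Perm.sign σ : ℤ) • permS S σ := by
    have : (∑ σ : Equiv.Perm (Fin n), (Equiv.Perm.sign σ : ℤ) • permS S σ) ∈ (prepR φ).range :=
      sum_mem fun σ _ => zsmul_mem (permS_mem φ σ) _
    exact this
  rw [antiS_eq] at hε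
  set w : (Fin n → Fin n) → S := fun h => (Matrix.of fun i l : Fin n => if h i = l then (1 : S) else 0).det with hw
  have hwid : w id = 1 := by
    have : (Matrix.of fun i l : Fin n => if id i = l then (1 : S) else 0) = 1 := by ext i l; simp [Matrix.one_apply]
    rw [hw]; simp only [this, Matrix.det_one]
  let L : Submodule R (⨂[R] _ : Fin n, A) := LinearMap.range (LinearMap.mulRight R ε)
  let FL : S ⊗[R] L →ₗ[S] Matrix (Fin n → Fin n) (Fin n → Fin n) S := F.toLinearMap.comp (L.subtype.baseChange S)
  have hFL : Function.Injective FL :=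
    hFinj.comp (Module.Flat.lTensor_preserves_injective_linearMap L.subtype L.injective_subtype)
  let W : ((Fin n → Fin n) → S) →ₗ[S] Matrix (Fin n → Fin n) (Fin n → Fin n) S :=
    { toFun := fun u => Matrix.vecMulVec u w
      map_add' := fun u v => by ext; simp [Matrix.vecMulVec_apply, add_mul]
      map_smul' := fun c u => by ext; simp [Matrix.vecMulVec_apply, mul_assoc] }
  have hWinj : Function.Injective W := fun u v huv => funext fun f => by
    have := congrFun (congrFun huv f) id
    simpa [W, Matrix.vecMulVec_apply, hwid] using this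
  have hrange : LinearMap.range FL = LinearMap.range W := by
    apply le_antisymm
    · rintro _ ⟨z, rfl⟩
      induction z using TensorProduct.induction_on with
      | zero => simp
      | tmul c y =>
        obtain ⟨_, x, rfl⟩ := y
        refine ⟨c • (prepR φ x).mulVec w, ?_⟩
        show _ = F (c ⊗ₜ[R] (x * ε))
        rw [hFt, map_mul, hε, Matrix.mul_vecMulVec, map_smul]
        rfl
      | add p q hp hq => rw [map_add]; exact add_mem hp hq
    · rintro _ ⟨u, rfl⟩
      obtain ⟨z, hz⟩ := hFsurj (Matrix.vecMulVec u (Pi.single id 1))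
      have hz' : W u = F z * prepR φ ε := by
        rw [hz, hε, Matrix.vecMulVec_mul_vecMulVec]
        simp [W, hwid]
      rw [hz']
      clear hz hz'
      induction z using TensorProduct.induction_on with
      | zero => simp
      | tmul c x =>
        refine ⟨c ⊗ₜ ⟨x * ε, x, rfl⟩, ?_⟩
        show F (c ⊗ₜ[R] (x * ε)) = F (c ⊗ₜ[R] x) * prepR φ ε
        rw [hFt, hFt, map_mul, Matrix.smul_mul]
      | add p q hp hq => rw [map_add, add_mul]; exact add_mem hp hq
  let eS : S ⊗[R] L ≃ₗ[S] ((Fin n → Fin n) → S) :=
    (LinearEquiv.ofInjective FL hFL).trans ((LinearEquiv.ofEq _ _ hrange).trans (LinearEquiv.ofInjective W hWinj).symm)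
  have heS : ∀ y, W (eS y) = FL y := fun y => by
    exact congrArg Subtype.val ((LinearEquiv.ofInjective W hWinj).apply_symm_apply
      ((LinearEquiv.ofEq _ _ hrange) ((LinearEquiv.ofInjective FL hFL) y)))
  haveI hLfin : Module.Finite R L := Module.Finite.range _
  haveI : Module.Finite S (S ⊗[R] L) := Module.Finite.equiv eS.symm
  haveI : Module.Free S (S ⊗[R] L) := Module.Free.of_equiv eS.symm
  haveI : Module.FinitePresentation S (S ⊗[R] L) := Module.finitePresentation_of_projective S _
  haveI : Module.FinitePresentation R L := CSA.AzumayaDescent.finitePresentation_descend R S L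
  haveI : Module.Flat R L := Module.Flat.of_flat_tensorProduct R L S
  haveI : Module.Projective R L := Module.Flat.projective_of_finitePresentation
  let ρl : (⨂[R] _ : Fin n, A) →ₗ[R] Module.End R L :=
    { toFun := fun x => (LinearMap.mulLeft R x).restrict (p := L) (q := L) (by
        rintro _ ⟨z, rfl⟩; exact ⟨x * z, mul_assoc x z ε⟩)
      map_add' := fun x y => LinearMap.ext fun z => Subtype.ext (add_mul x y (z : ⨂[R] _ : Fin n, A))
      map_smul' := fun r x => LinearMap.ext fun z => Subtype.ext (smul_mul_assoc r x (z : ⨂[R] _ : Fin n, A)) }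
  let ρ : (⨂[R] _ : Fin n, A) →ₐ[R] Module.End R L :=
    AlgHom.ofLinearMap ρl
      (LinearMap.ext fun z => Subtype.ext (one_mul (z : ⨂[R] _ : Fin n, A)))
      (fun x y => LinearMap.ext fun z => Subtype.ext (mul_assoc x y (z : ⨂[R] _ : Fin n, A)))
  refine ⟨L, inferInstance, inferInstance, inferInstance, inferInstance, fun p => ?_,
    ⟨AlgEquiv.ofBijective ρ ?_⟩⟩
  · obtain ⟨q, rfl⟩ := PrimeSpectrum.comap_surjective_of_faithfullyFlat (A := R) (B := S) p
    haveI : Nontrivial S := by
      by_contra hS
      rw [not_nontrivial_iff_subsingleton] at hS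
      exact q.2.ne_top ((Ideal.eq_top_iff_one _).mpr (by rw [Subsingleton.elim (1 : S) 0]; exact zero_mem _))
    rw [← Module.rankAtStalk_baseChange, Module.rankAtStalk_eq_of_equiv eS, Module.rankAtStalk_eq_finrank_of_free,
      Pi.natCast_apply, Module.finrank_pi, Fintype.card_fun, Fintype.card_fin, Nat.cast_id]
  · have key : ∀ (z : S ⊗[R] (⨂[R] _ : Fin n, A)) (y : S ⊗[R] L),
        FL (LinearMap.tensorProductEnd R S L (ρ.toLinearMap.lTensor S z) y) = F z * FL y := by
      intro z y
      induction z using TensorProduct.induction_on with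
      | zero => simp
      | tmul c x =>
        rw [LinearMap.lTensor_tmul]
        show FL ((c • (ρl x).baseChange S) y) = _
        rw [LinearMap.smul_apply, map_smul]
        induction y using TensorProduct.induction_on with
        | zero => simp
        | tmul d v =>
          rw [LinearMap.baseChange_tmul]
          show c • F (d ⊗ₜ[R] (x * (v : ⨂[R] _ : Fin n, A))) = F (c ⊗ₜ[R] x) * F (d ⊗ₜ[R] (v : ⨂[R] _ : Fin n, A))
          rw [hFt, hFt, hFt, map_mul, Matrix.smul_mul, Matrix.mul_smul, smul_smul]
        | add a b ha hb => rw [map_add, map_add, smul_add, ha, hb, map_add, mul_add]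
      | add a b ha hb => rw [map_add, map_add, LinearMap.add_apply, map_add, ha, hb, map_add, add_mul]
    have hmv : ∀ z y, eS (LinearMap.tensorProductEnd R S L (ρ.toLinearMap.lTensor S z) y) = (F z).mulVec (eS y) := fun z y => by
      apply hWinj
      rw [heS, key, ← heS]
      exact Matrix.mul_vecMulVec _ _ _
    have hb : Function.Bijective fun z => LinearMap.tensorProductEnd R S L (ρ.toLinearMap.lTensor S z) := by
      constructor
      · intro a b hab
        refine hFinj (Matrix.ext_iff_mulVec.mpr fun v => ?_)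
        obtain ⟨y, rfl⟩ := eS.surjective v
        rw [← hmv, ← hmv]
        exact congrArg (fun G : Module.End S (S ⊗[R] L) => eS (G y)) hab
      · intro G
        obtain ⟨z, hz⟩ := hFsurj (LinearMap.toMatrix' (eS.toLinearMap ∘ₗ G ∘ₗ eS.symm.toLinearMap))
        refine ⟨z, LinearMap.ext fun y => eS.injective ?_⟩
        rw [hmv, hz, LinearMap.toMatrix'_mulVec]
        simp
    have hb' : Function.Bijective (ρ.toLinearMap.lTensor S) :=
      (Function.Bijective.of_comp_iff' (endBaseChange_bijective R S L) _).1 hb
    exact @Iff.mp _ _ (@Module.FaithfullyFlat.lTensor_bijective_iff_bijective R S _ _ _ (⨂[R] _ : Fin n, A) (Module.End R L)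
      _ _ _ _ ρ.toLinearMap _) hb'

end Groth.Agent.Az8
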