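import Groth.Agent.Az8.Regular
import Groth.Agent.Dix.Azumaya

set_option autoImplicit false
universe u v

open scoped TensorProduct
open Polynomial

namespace Groth.Agent.Az8

variable {R : Type u} [CommRing R] [IsLocalRing R] {A : Type v} [Ring A] [Algebra R A] [IsAzumaya R A]

local notation "κ" => IsLocalRing.ResidueField R

theorem nontrivial_fibre : Nontrivial (κ ⊗[R] A) := by
  haveI : Module.Free R A := Module.free_of_flat_of_isLocalRing
  haveI : Nontrivial A := by
    by_contra hA
    rw [not_nontrivial_iff_subsingleton] at hA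
    exact one_ne_zero (α := R)
      (FaithfulSMul.eq_of_smul_eq_smul (α := A) fun a => Subsingleton.elim _ _)
  obtain ⟨⟨ι, b⟩⟩ := Module.Free.exists_basis (R := R) (M := A)
  obtain ⟨i⟩ := b.index_nonempty
  exact ⟨(b.baseChange κ) i, 0, (b.baseChange κ).ne_zero i⟩

theorem finrank_pos' {r : ℕ} (hA : Module.finrank R A = r ^ 2) : 0 < r := by
  haveI : Module.Free R A := Module.free_of_flat_of_isLocalRing
  haveI := nontrivial_fibre (R := R) (A := A)
  refine Nat.pos_of_ne_zero fun h => ?_
  have : 0 < Module.finrank κ (κ ⊗[R] A) := Module.finrank_pos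
  rw [Module.finrank_baseChange, hA, h] at this
  simp at this

/-- a lift of a regular element generates a free direct factor -/
theorem powers {r : ℕ} (hA : Module.finrank R A = r ^ 2) (ξ : A)
    (hsep : (minpoly κ ((1 : κ) ⊗ₜ[R] ξ)).Separable) (hdeg : (minpoly κ ((1 : κ) ⊗ₜ[R] ξ)).natDegree = r) :
    LinearIndependent R (fun i : Fin r => ξ ^ (i : ℕ)) ∧
      ∀ a : A, ξ * a = a * ξ → a ∈ Submodule.span R (Set.range (fun i : Fin r => ξ ^ (i : ℕ))) := by
  classical
  haveI : Module.Free R A := Module.free_of_flat_of_isLocalRing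
  haveI := nontrivial_fibre (R := R) (A := A)
  obtain ⟨_, _⟩ := Dix.Azumaya.fibre_centralSimple R A κ
  set x : κ ⊗[R] A := (1 : κ) ⊗ₜ[R] ξ with hxdef
  have hAk : Module.finrank κ (κ ⊗[R] A) = r ^ 2 := by rw [Module.finrank_baseChange, hA]
  let L : (Fin r → R) →ₗ[R] A := Fintype.linearCombination R fun i : Fin r => ξ ^ (i : ℕ)
  let Lk : (Fin r → κ) →ₗ[κ] κ ⊗[R] A := Fintype.linearCombination κ fun i : Fin r => x ^ (i : ℕ)
  have hxli : LinearIndependent κ fun i : Fin r => x ^ (i : ℕ) :=
    (linearIndependent_pow (K := κ) x).comp (Fin.cast hdeg.symm) (Fin.cast_injective _)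
  have hLk : Function.Injective Lk := hxli.fintypeLinearCombination_injective
  let P := TensorProduct.piScalarRight R κ κ (Fin r)
  have hLP : ∀ z : κ ⊗[R] (Fin r → R), L.lTensor κ z = Lk (P z) := by
    intro z
    induction z using TensorProduct.induction_on with
    | zero => simp
    | tmul c f =>
      simp only [P, TensorProduct.piScalarRight_apply, TensorProduct.piScalarRightHom_tmul, LinearMap.lTensor_tmul, L, Lk,
        Fintype.linearCombination_apply, TensorProduct.tmul_sum]
      refine Finset.sum_congr rfl fun i _ => ?_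
      rw [hxdef, Algebra.TensorProduct.tmul_pow, one_pow, TensorProduct.tmul_smul, TensorProduct.smul_tmul',
        TensorProduct.smul_tmul', smul_eq_mul, mul_one]
    | add a b ha hb => rw [map_add, ha, hb, map_add, map_add]
  have hLinj : Function.Injective (L.lTensor κ) := fun a b h => P.injective (hLk (by rwa [hLP, hLP] at h))
  obtain ⟨π, hπ⟩ := (IsLocalRing.split_injective_iff_lTensor_residueField_injective L).mpr hLinj
  refine ⟨linearIndependent_iff_injective_fintypeLinearCombination.mpr
    (Function.LeftInverse.injective (LinearMap.congr_fun hπ)), ?_⟩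
  let ad : A →ₗ[R] A := LinearMap.mulLeft R ξ - LinearMap.mulRight R ξ
  let Φ : A →ₗ[R] A × (Fin r → R) := ad.prod π
  let adk : (κ ⊗[R] A) →ₗ[κ] κ ⊗[R] A := LinearMap.mulLeft κ x - LinearMap.mulRight κ x
  have had : ∀ z : κ ⊗[R] A, ad.lTensor κ z = adk z := by
    intro z
    induction z using TensorProduct.induction_on with
    | zero => simp
    | tmul c a => simp [ad, adk, x, TensorProduct.tmul_sub]
    | add a b ha hb => rw [map_add, ha, hb, map_add]
  have hker : LinearMap.ker adk = LinearMap.range Lk := by
    refine (Submodule.eq_of_le_of_finrank_le ?_ ?_).symm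
    · rintro _ ⟨c, rfl⟩
      show x * Lk c - Lk c * x = 0
      simp only [Lk, Fintype.linearCombination_apply, Finset.mul_sum, Finset.sum_mul, mul_smul_comm, smul_mul_assoc,
        pow_mul_comm', ← pow_succ, ← pow_succ', sub_self]
    · rw [LinearMap.finrank_range_of_inj hLk, Module.finrank_fin_fun]
      exact commutant_le hAk x hsep hdeg
  have hΦ : Function.Injective (Φ.lTensor κ) := by
    rw [← LinearMap.ker_eq_bot, LinearMap.ker_eq_bot']
    intro z hz
    have h1 : ad.lTensor κ z = 0 := by
      rw [show ad = (LinearMap.fst R A (Fin r → R)).comp Φ from (LinearMap.fst_prod ad π).symm, LinearMap.lTensor_comp,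
        LinearMap.comp_apply, hz, map_zero]
    have h2 : π.lTensor κ z = 0 := by
      rw [show π = (LinearMap.snd R A (Fin r → R)).comp Φ from (LinearMap.snd_prod ad π).symm, LinearMap.lTensor_comp,
        LinearMap.comp_apply, hz, map_zero]
    obtain ⟨c, hc⟩ : z ∈ LinearMap.range Lk := by
      rw [← hker, LinearMap.mem_ker, ← had, h1]
    have hz' : z = L.lTensor κ (P.symm c) := by rw [hLP, P.apply_symm_apply, hc]
    rw [hz', ← LinearMap.comp_apply, ← LinearMap.lTensor_comp, hπ, LinearMap.lTensor_id, LinearMap.id_apply] at h2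
    rw [hz', h2, map_zero]
  obtain ⟨l, hl⟩ := (IsLocalRing.split_injective_iff_lTensor_residueField_injective Φ).mpr hΦ
  intro a ha
  have hinj : Function.Injective Φ := Function.LeftInverse.injective (LinearMap.congr_fun hl)
  have hzero : a - L (π a) = 0 := hinj (by
    rw [map_zero]
    refine Prod.ext ?_ ?_
    · show ad (a - L (π a)) = 0
      have hcomm : Commute ξ (L (π a)) := by
        simp only [L, Fintype.linearCombination_apply]
        exact Commute.sum_right _ _ _ fun i _ => ((Commute.refl ξ).pow_right _).smul_right _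
      simp only [ad, LinearMap.sub_apply, LinearMap.mulLeft_apply, LinearMap.mulRight_apply, mul_sub, sub_mul, ha, hcomm.eq]
      abel
    · show π (a - L (π a)) = 0
      rw [map_sub, ← LinearMap.comp_apply, hπ, LinearMap.id_apply, sub_self])
  rw [sub_eq_zero.mp hzero]
  simp only [L, Fintype.linearCombination_apply]
  exact sum_mem fun i _ => Submodule.smul_mem _ _ (Submodule.subset_span ⟨i, rfl⟩)

end Groth.Agent.Az8
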