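import Groth.Agent.Az8.Local
import Groth.Agent.Az8.Etale
import Groth.Agent.S5711

set_option autoImplicit false
universe u

open scoped TensorProduct
open Polynomial

namespace Groth.Agent.Az8

variable {R : Type u} [CommRing R]

/-- the map out of `AdjoinRoot` into a possibly noncommutative algebra -/
noncomputable def toAlg {A : Type*} [Ring A] [Algebra R A] (p : Polynomial R) (ξ : A) (h : aeval ξ p = 0) :
    AdjoinRoot p →ₐ[R] A :=
  Ideal.Quotient.liftₐ _ (aeval ξ) (fun a ha => by
    obtain ⟨q, rfl⟩ := Ideal.mem_span_singleton'.mp ha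
    rw [map_mul, h, mul_zero])

lemma toAlg_mk {A : Type*} [Ring A] [Algebra R A] (p : Polynomial R) (ξ : A) (h : aeval ξ p = 0) (q : Polynomial R) :
    toAlg p ξ h (AdjoinRoot.mk p q) = aeval ξ q := rfl

/-- the right module structure through a map from a commutative algebra -/
@[reducible] def rightModule {A : Type*} [Ring A] [Algebra R A] {E : Type*} [CommRing E] [Algebra R E] (u : E →ₐ[R] A) :
    Module E A :=
  Module.compHom A (RingHom.toOpposite u.toRingHom fun x y => by
    show u x * u y = u y * u x
    rw [← map_mul, ← map_mul, mul_comm])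

lemma rightModule_smul {A : Type*} [Ring A] [Algebra R A] {E : Type*} [CommRing E] [Algebra R E] (u : E →ₐ[R] A)
    (e : E) (a : A) : letI := rightModule u; e • a = a * u e := rfl

variable [IsLocalRing R] {A : Type u} [Ring A] [Algebra R A] [IsAzumaya R A]

theorem exists_section {r : ℕ} (hA : Module.finrank R A = r ^ 2) : ∃ ξ : A,
    (minpoly (IsLocalRing.ResidueField R) ((1 : IsLocalRing.ResidueField R) ⊗ₜ[R] ξ)).Separable ∧
      (minpoly (IsLocalRing.ResidueField R) ((1 : IsLocalRing.ResidueField R) ⊗ₜ[R] ξ)).natDegree = r := by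
  haveI : Module.Free R A := Module.free_of_flat_of_isLocalRing
  haveI := nontrivial_fibre (R := R) (A := A)
  obtain ⟨_, _⟩ := Dix.Azumaya.fibre_centralSimple R A (IsLocalRing.ResidueField R)
  obtain ⟨x, hx⟩ := exists_regular (k := IsLocalRing.ResidueField R) (A := IsLocalRing.ResidueField R ⊗[R] A) (r := r)
    (by rw [Module.finrank_baseChange, hA])
  obtain ⟨ξ, rfl⟩ := TensorProduct.mk_surjective R A (IsLocalRing.ResidueField R) IsLocalRing.residue_surjective x
  exact ⟨ξ, hx⟩

theorem exists_poly {r : ℕ} (hA : Module.finrank R A = r ^ 2) (ξ : A)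
    (hsep : (minpoly (IsLocalRing.ResidueField R) ((1 : IsLocalRing.ResidueField R) ⊗ₜ[R] ξ)).Separable)
    (hdeg : (minpoly (IsLocalRing.ResidueField R) ((1 : IsLocalRing.ResidueField R) ⊗ₜ[R] ξ)).natDegree = r) :
    ∃ p : Polynomial R, p.Monic ∧ p.natDegree = r ∧ aeval ξ p = 0 := by
  classical
  obtain ⟨c, hc⟩ := (Submodule.mem_span_range_iff_exists_fun R).mp
    ((powers hA ξ hsep hdeg).2 (ξ ^ r) (pow_mul_comm' ξ r).symm)
  have hd : (∑ i : Fin r, C (c i) * X ^ (i : ℕ)).degree < (r : WithBot ℕ) := by
    refine (degree_sum_le _ _).trans_lt ((Finset.sup_lt_iff (WithBot.bot_lt_coe r)).mpr fun i _ => ?_)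
    exact (degree_C_mul_X_pow_le _ _).trans_lt (WithBot.coe_lt_coe.mpr i.2)
  refine ⟨X ^ r - ∑ i : Fin r, C (c i) * X ^ (i : ℕ), monic_X_pow_sub hd, ?_, ?_⟩
  · refine natDegree_eq_of_degree_eq_some ?_
    rw [degree_sub_eq_left_of_degree_lt] <;> simp [degree_X_pow, hd]
  · simp only [map_sub, map_pow, aeval_X, map_sum, map_mul, aeval_C, ← Algebra.smul_def, hc, sub_self]

theorem separable_residue {r : ℕ} (ξ : A)
    (hsep : (minpoly (IsLocalRing.ResidueField R) ((1 : IsLocalRing.ResidueField R) ⊗ₜ[R] ξ)).Separable)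
    (hdeg : (minpoly (IsLocalRing.ResidueField R) ((1 : IsLocalRing.ResidueField R) ⊗ₜ[R] ξ)).natDegree = r)
    {p : Polynomial R} (hp : p.Monic) (hpd : p.natDegree = r) (h0 : aeval ξ p = 0) :
    (p.map (algebraMap R (IsLocalRing.ResidueField R))).Separable := by
  have h1 : aeval ((1 : IsLocalRing.ResidueField R) ⊗ₜ[R] ξ) (p.map (algebraMap R (IsLocalRing.ResidueField R))) = 0 := by
    rw [aeval_map_algebraMap, show ((1 : IsLocalRing.ResidueField R) ⊗ₜ[R] ξ) =
      Algebra.TensorProduct.includeRight ξ from rfl, aeval_algHom_apply, h0, map_zero]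
  rw [← eq_of_monic_of_dvd_of_natDegree_le (minpoly.monic (Algebra.IsIntegral.isIntegral _)) (hp.map _)
    (minpoly.dvd _ _ h1) (by rw [hdeg, natDegree_map_eq_iff.mpr, hpd]; left; rw [hp.leadingCoeff, map_one]; exact one_ne_zero)] at hsep
  exact hsep

theorem toAlg_fibre_injective {r : ℕ} (ξ : A)
    (hdeg : (minpoly (IsLocalRing.ResidueField R) ((1 : IsLocalRing.ResidueField R) ⊗ₜ[R] ξ)).natDegree = r)
    {p : Polynomial R} (hp : p.Monic) (hpd : p.natDegree = r) (h0 : aeval ξ p = 0) :
    Function.Injective ((toAlg p ξ h0).toLinearMap.lTensor (IsLocalRing.ResidueField R)) := by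
  classical
  let κ := IsLocalRing.ResidueField R
  let pb := AdjoinRoot.powerBasis' hp
  have hdim : pb.dim = r := hpd
  let e : κ ⊗[R] AdjoinRoot p ≃ₗ[R] (Fin pb.dim → κ) :=
    (pb.basis.baseChange κ).equivFun.restrictScalars R
  let Lk : (Fin pb.dim → κ) →ₗ[κ] κ ⊗[R] A :=
    Fintype.linearCombination κ fun i : Fin pb.dim => ((1 : κ) ⊗ₜ[R] ξ) ^ (i : ℕ)
  have hLk : Function.Injective Lk :=
    ((linearIndependent_pow (K := κ) ((1 : κ) ⊗ₜ[R] ξ)).comp (Fin.cast (hdim.trans hdeg.symm))
      (Fin.cast_injective _)).fintypeLinearCombination_injective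
  have key : ∀ z, (toAlg p ξ h0).toLinearMap.lTensor κ z = Lk (e z) := by
    intro z
    conv_lhs => rw [← (pb.basis.baseChange κ).sum_repr z]
    simp only [Lk, e, Fintype.linearCombination_apply, map_sum, LinearEquiv.restrictScalars_apply,
      Module.Basis.equivFun_apply]
    refine Finset.sum_congr rfl fun i _ => ?_
    generalize ((pb.basis.baseChange κ).repr z) i = c
    rw [Module.Basis.baseChange_apply, TensorProduct.smul_tmul', smul_eq_mul, mul_one, LinearMap.lTensor_tmul,
      Algebra.TensorProduct.tmul_pow, one_pow, TensorProduct.smul_tmul', smul_eq_mul, mul_one]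
    congr 1
    rw [AlgHom.toLinearMap_apply, pb.basis_eq_pow, map_pow]
    congr 1
    show toAlg p ξ h0 (AdjoinRoot.root p) = ξ
    rw [← AdjoinRoot.mk_X, toAlg_mk, aeval_X]
  intro a b hab
  rw [key, key] at hab
  exact e.injective (hLk hab)

theorem lam_span {r : ℕ} (hA : Module.finrank R A = r ^ 2) {E : Type u} [CommRing E] [Algebra R E] [Module.Finite R E]
    [Module.Free R E] (hE : Module.finrank R E = r) (u : E →ₐ[R] A)
    (hu : Function.Injective (u.toLinearMap.lTensor (IsLocalRing.ResidueField R))) [Module E A]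
    (hmod : ∀ (e : E) (a : A), e • a = a * u e) [Module.Free E A] (hrank : Module.finrank E A = r)
    (v : Module.Basis (Fin r) E A) (w : Fin r → A) :
    w ∈ Submodule.span R (Set.range fun ea : E × A => fun j => ea.2 * v j * u ea.1) := by
  classical
  haveI : Module.Free R A := Module.free_of_flat_of_isLocalRing
  haveI : IsScalarTower R E A := ⟨fun c l a => by rw [hmod, hmod, map_smul, mul_smul_comm]⟩
  haveI : SMulCommClass E R A := ⟨fun l c a => by rw [hmod, hmod, smul_mul_assoc]⟩
  haveI : Module.Finite E A := Module.Finite.of_restrictScalars_finite R E A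
  haveI : Nontrivial E := by
    apply Module.nontrivial_of_finrank_pos (R := R)
    rw [hE]; exact finrank_pos' hA
  let k := IsLocalRing.ResidueField R
  let lam : A →ₐ[R] Module.End E A :=
    { toFun := fun a =>
        { toFun := fun y => a * y
          map_add' := mul_add a
          map_smul' := fun l y => by rw [RingHom.id_apply, hmod, hmod, mul_assoc] }
      map_one' := LinearMap.ext fun y => one_mul y
      map_mul' := fun a b => LinearMap.ext fun y => mul_assoc a b y
      map_zero' := LinearMap.ext fun y => zero_mul y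
      map_add' := fun a b => LinearMap.ext fun y => add_mul a b y
      commutes' := fun c => LinearMap.ext fun y => by
        show algebraMap R A c * y = _
        rw [← Algebra.smul_def]
        rfl }
  have hbij : ∀ {X Y : Type u} [AddCommGroup X] [Module R X] [Module.Finite R X] [Module.Free R X]
      [AddCommGroup Y] [Module R Y] [Module.Finite R Y] [Module.Free R Y] (f : X →ₗ[R] Y)
      (p : Y →ₗ[R] X), p ∘ₗ f = LinearMap.id → Module.finrank R X = Module.finrank R Y →
      Function.Bijective f := by
    intro X Y _ _ _ _ _ _ _ _ f p hpf hd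
    let e := LinearEquiv.ofFinrankEq (R := R) X Y hd
    have hps : Function.Surjective p := fun x => ⟨f x, LinearMap.congr_fun hpf x⟩
    have hes : Function.Injective (e.toLinearMap ∘ₗ p) :=
      OrzechProperty.injective_of_surjective_endomorphism _ (e.surjective.comp hps)
    have hpi : Function.Injective p := fun a b hab => hes (congrArg e hab)
    exact ⟨fun a b hab => by
        have := congrArg p hab
        rwa [← LinearMap.comp_apply, ← LinearMap.comp_apply, hpf] at this,
      fun y => ⟨p y, hpi (LinearMap.congr_fun hpf (p y))⟩⟩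
  let ψ : E ⊗[R] A →ₐ[E] Module.End E A :=
    Algebra.TensorProduct.lift (Algebra.ofId E (Module.End E A)) lam
      (fun l a => Algebra.commutes l (lam a))
  let f : E →ₗ[R] Aᵐᵒᵖ := (MulOpposite.opLinearEquiv R : A ≃ₗ[R] Aᵐᵒᵖ).toLinearMap ∘ₗ u.toLinearMap
  have hf : Function.Injective (f.lTensor k) := by
    rw [LinearMap.lTensor_comp]
    exact ((MulOpposite.opLinearEquiv R : A ≃ₗ[R] Aᵐᵒᵖ).lTensor k).injective.comp hu
  obtain ⟨f', hf'⟩ := (IsLocalRing.split_injective_iff_lTensor_residueField_injective f).mpr hf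
  let g : E ⊗[R] A →ₗ[R] A ⊗[R] Aᵐᵒᵖ := (f.lTensor A) ∘ₗ (TensorProduct.comm R E A).toLinearMap
  let g' : A ⊗[R] Aᵐᵒᵖ →ₗ[R] E ⊗[R] A :=
    (TensorProduct.comm R A E).toLinearMap ∘ₗ (f'.lTensor A)
  let m := AlgEquiv.ofBijective (AlgHom.mulLeftRight R A) IsAzumaya.bij
  let res : Module.End E A →ₗ[R] Module.End R A :=
    { toFun := fun F => F.restrictScalars R
      map_add' := fun _ _ => rfl
      map_smul' := fun _ _ => rfl }
  have key : ∀ z, res (ψ z) = m (g z) := by
    intro z
    refine LinearMap.ext fun x => ?_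
    show ψ z x = AlgHom.mulLeftRight R A (g z) x
    induction z using TensorProduct.induction_on with
    | zero => simp
    | tmul l a =>
      simp only [ψ, Algebra.TensorProduct.lift_tmul, g, f, LinearMap.comp_apply,
        LinearEquiv.coe_coe, TensorProduct.comm_tmul, LinearMap.lTensor_tmul,
        AlgHom.mulLeftRight_apply]
      show l • (a * x) = a * x * u l
      exact hmod l (a * x)
    | add c d hc hd => simp [hc, hd]
  have hleft : (g' ∘ₗ m.symm.toLinearMap ∘ₗ res) ∘ₗ (ψ.toLinearMap.restrictScalars R) =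
      LinearMap.id := by
    refine LinearMap.ext fun z => ?_
    show g' (m.symm (res (ψ z))) = z
    rw [key, AlgEquiv.symm_apply_apply]
    show g' (g z) = z
    have : (f'.lTensor A) ((f.lTensor A) (TensorProduct.comm R E A z)) =
        TensorProduct.comm R E A z := by
      rw [← LinearMap.comp_apply, ← LinearMap.lTensor_comp, hf', LinearMap.lTensor_id,
        LinearMap.id_apply]
    show TensorProduct.comm R A E ((f'.lTensor A) ((f.lTensor A) (TensorProduct.comm R E A z))) = z
    rw [this, ← TensorProduct.comm_symm, LinearEquiv.symm_apply_apply]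
  haveI : Module.Finite R (Module.End E A) := Module.Finite.trans E _
  haveI : Module.Free R (Module.End E A) := Module.Free.trans (R := R) (S := E)
  have hψ : Function.Bijective ψ := hbij (ψ.toLinearMap.restrictScalars R) _ hleft (by
    rw [Module.finrank_tensorProduct, ← Module.finrank_mul_finrank R E (Module.End E A),
      Module.finrank_linearMap, hrank, hA, hE, pow_two])
  obtain ⟨z, hz⟩ := hψ.2 (v.constr E w)
  have hw : w = fun j => ψ z (v j) := by funext j; rw [hz, v.constr_basis]
  rw [hw]
  clear hz hw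
  induction z using TensorProduct.induction_on with
  | zero =>
    rw [show (fun j => ψ 0 (v j)) = 0 from funext fun j => by simp]
    exact zero_mem _
  | tmul l a =>
    refine Submodule.subset_span ⟨(l, a), funext fun j => ?_⟩
    simp only [ψ, Algebra.TensorProduct.lift_tmul]
    exact (hmod l (a * v j)).symm
  | add c d hc hd =>
    rw [show (fun j => ψ (c + d) (v j)) = (fun j => ψ c (v j)) + fun j => ψ d (v j) from funext fun j => by simp]
    exact add_mem hc hd

end Groth.Agent.Az8
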