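import Groth.Agent.RN8.SepField
import Groth.Agent.Br8.Csa

set_option autoImplicit false
universe u v

open scoped TensorProduct
open Polynomial

namespace Groth.Agent.Az8

variable {k : Type u} [Field k] {A : Type v} [Ring A] [Algebra k A] [FiniteDimensional k A]

theorem finrank_adjoin (x : A) : Module.finrank k (Algebra.adjoin k ({x} : Set A)) = (minpoly k x).natDegree := by
  classical
  have hint : IsIntegral k x := Algebra.IsIntegral.isIntegral x
  have h : Subalgebra.toSubmodule (Algebra.adjoin k ({x} : Set A)) =
      Submodule.span k (Set.range fun i : Fin (minpoly k x).natDegree => x ^ (i : ℕ)) := by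
    apply le_antisymm
    · intro y hy
      rw [Subalgebra.mem_toSubmodule, Algebra.adjoin_singleton_eq_range_aeval] at hy
      obtain ⟨q, rfl⟩ := hy
      show aeval x q ∈ _
      rcases subsingleton_or_nontrivial A with hA | hA
      · rw [Subsingleton.elim (aeval x q) 0]; exact zero_mem _
      rw [← Polynomial.modByMonic_add_div (p := q) (minpoly k x), map_add, map_mul, minpoly.aeval,
        zero_mul, add_zero]
      have hlt := natDegree_modByMonic_lt q (minpoly.monic hint) (minpoly.ne_one k x)
      rw [aeval_eq_sum_range' hlt]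
      exact sum_mem fun i hi => Submodule.smul_mem _ _ (Submodule.subset_span ⟨⟨i, Finset.mem_range.mp hi⟩, rfl⟩)
    · rw [Submodule.span_le]
      rintro _ ⟨i, rfl⟩
      exact pow_mem (Algebra.self_mem_adjoin_singleton k x) _
  calc Module.finrank k (Algebra.adjoin k ({x} : Set A))
      = Module.finrank k (Submodule.span k (Set.range fun i : Fin (minpoly k x).natDegree => x ^ (i : ℕ))) := by
        rw [← h]; rfl
    _ = _ := by rw [finrank_span_eq_card (linearIndependent_pow x), Fintype.card_fin]

theorem minpoly_separable_of_adjoin (x : A) (h : Algebra.IsSeparable k (Algebra.adjoin k ({x} : Set A))) :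
    (minpoly k x).Separable := by
  have := Algebra.IsSeparable.isSeparable k
    (⟨x, Algebra.self_mem_adjoin_singleton k x⟩ : Algebra.adjoin k ({x} : Set A))
  unfold IsSeparable at this
  rwa [← minpoly.algHom_eq (Algebra.adjoin k ({x} : Set A)).val Subtype.val_injective] at this

theorem isSeparable_adjoin (x : A) (h : (minpoly k x).Separable) :
    Algebra.IsSeparable k (Algebra.adjoin k ({x} : Set A)) := by
  classical
  refine ⟨fun y => ?_⟩
  obtain ⟨y, hy⟩ := y
  have hy' := hy
  rw [Algebra.adjoin_singleton_eq_range_aeval] at hy'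
  obtain ⟨g, rfl⟩ := hy'
  unfold IsSeparable
  rw [← minpoly.algHom_eq (Algebra.adjoin k ({x} : Set A)).val Subtype.val_injective]
  show (minpoly k (aeval x g)).Separable
  let Ω := AlgebraicClosure k
  set p := minpoly k x
  have hp0 : p ≠ 0 := minpoly.ne_zero (Algebra.IsIntegral.isIntegral x)
  let T : Finset (Polynomial k) := (p.aroots Ω).toFinset.image fun α => minpoly k (aeval α g)
  have hT : ∀ q ∈ T, Irreducible q ∧ q.Monic ∧ q.Separable := fun q hq => by
    obtain ⟨α, hα, rfl⟩ := Finset.mem_image.mp hq
    have hαi : IsIntegral k α := Algebra.IsIntegral.isIntegral α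
    have hαp : aeval α p = 0 := (mem_aroots.mp (Multiset.mem_toFinset.mp hα)).2
    have hαs : IsSeparable k α := Separable.of_dvd h (minpoly.dvd k α hαp)
    have hmem : aeval α g ∈ IntermediateField.adjoin k ({α} : Set Ω) :=
      IntermediateField.algebra_adjoin_le_adjoin k _ (aeval_mem_adjoin_singleton k α)
    haveI := (IntermediateField.isSeparable_adjoin_simple_iff_isSeparable k Ω).mpr hαs
    have hs := Algebra.IsSeparable.isSeparable k (⟨_, hmem⟩ : IntermediateField.adjoin k ({α} : Set Ω))
    unfold IsSeparable at hs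
    rw [← minpoly.algHom_eq (IntermediateField.adjoin k ({α} : Set Ω)).val Subtype.val_injective] at hs
    exact ⟨minpoly.irreducible (Algebra.IsIntegral.isIntegral _), minpoly.monic (Algebra.IsIntegral.isIntegral _), hs⟩
  let s : Polynomial k := ∏ q ∈ T, q
  have hs : s.Separable := separable_prod' (fun q hq q' hq' hne =>
    ((hT q hq).1.coprime_iff_not_dvd).mpr fun hdvd => hne
      (eq_of_monic_of_associated (hT q hq).2.1 (hT q' hq').2.1 ((hT q hq).1.associated_of_dvd (hT q' hq').1 hdvd)))
    (fun q hq => (hT q hq).2.2)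
  have hroots : ∀ α ∈ p.aroots Ω, aeval α (s.comp g) = 0 := fun α hα => by
    rw [aeval_comp, map_prod]
    exact Finset.prod_eq_zero (Finset.mem_image.mpr ⟨α, Multiset.mem_toFinset.mpr hα, rfl⟩) (minpoly.aeval _ _)
  have hdvd : p ∣ s.comp g := by
    rw [← map_dvd_map' (algebraMap k Ω)]
    rcases eq_or_ne ((s.comp g).map (algebraMap k Ω)) 0 with h0 | h0
    · rw [h0]; exact dvd_zero _
    refine (IsAlgClosed.splits _).dvd_of_roots_le_roots (Polynomial.map_ne_zero hp0) ?_
    refine (Multiset.le_iff_subset (nodup_roots h.map)).mpr fun α hα => ?_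
    rw [mem_roots h0, IsRoot.def, eval_map_algebraMap]
    exact hroots α hα
  refine Separable.of_dvd hs (minpoly.dvd k _ ?_)
  rw [← aeval_comp]
  obtain ⟨c, hc⟩ := hdvd
  rw [hc, map_mul, minpoly.aeval, zero_mul]

theorem commutant_le [Algebra.IsCentral k A] [IsSimpleRing A] {r : ℕ} (hA : Module.finrank k A = r ^ 2) (x : A)
    (hsep : (minpoly k x).Separable) (hdeg : (minpoly k x).natDegree = r) :
    Module.finrank k (LinearMap.ker (LinearMap.mulLeft k x - LinearMap.mulRight k x)) ≤ r := by
  classical
  obtain ⟨m, ⟨ψ⟩⟩ := RN8.spl_exists (k := k) (A := A)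
  obtain rfl : r = m := Nat.pow_left_injective two_ne_zero (hA.symm.trans (RN8.finrank_eq ψ))
  let Ω := AlgebraicClosure k
  let M : Matrix (Fin r) (Fin r) Ω := RN8.rep ψ x
  set p := minpoly k x
  have hmon : p.Monic := minpoly.monic (Algebra.IsIntegral.isIntegral x)
  have hpM : aeval M (p.map (algebraMap k Ω)) = 0 := by
    rw [aeval_map_algebraMap, aeval_algHom_apply, minpoly.aeval, map_zero]
  let roots := (p.map (algebraMap k Ω)).roots.toFinset
  have hcard : roots.card = r := by
    rw [Multiset.toFinset_card_of_nodup (nodup_roots hsep.map), ← (IsAlgClosed.splits _).natDegree_eq_card_roots,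
      natDegree_map, hdeg]
  have hli : ∀ q : Polynomial Ω, q.natDegree < r → aeval M q = 0 → q = 0 := by
    intro q hq h0
    have h1 : LinearIndependent Ω fun i : Fin r => M ^ (i : ℕ) := by
      have hk : LinearIndependent k fun i : Fin r => x ^ (i : ℕ) :=
        (linearIndependent_pow (K := k) x).comp (Fin.cast hdeg.symm) (Fin.cast_injective _)
      let g : (Fin r → k) →ₗ[k] A := Fintype.linearCombination k fun i : Fin r => x ^ (i : ℕ)
      have hg : Function.Injective g := hk.fintypeLinearCombination_injective
      have hb := Module.Flat.lTensor_preserves_injective_linearMap (M := Ω) g hg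
      refine Fintype.linearIndependent_iff.mpr fun c hc => ?_
      let z : Ω ⊗[k] (Fin r → k) := ∑ i, c i ⊗ₜ Pi.single i 1
      have hz : g.lTensor Ω z = 0 := by
        apply ψ.injective
        rw [map_zero, ← hc, map_sum, map_sum]
        refine Finset.sum_congr rfl fun i _ => ?_
        rw [LinearMap.lTensor_tmul, show c i ⊗ₜ[k] g (Pi.single i 1) = c i • ((1 : Ω) ⊗ₜ[k] g (Pi.single i 1)) by
          rw [TensorProduct.smul_tmul', smul_eq_mul, mul_one], map_smul]
        congr 1
        rw [show g (Pi.single i 1) = x ^ (i : ℕ) by simp [g, Fintype.linearCombination_apply_single], ← RN8.rep_apply, map_pow]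
      have hz0 : z = 0 := hb (by rw [hz, map_zero])
      intro i
      have := congrArg (TensorProduct.piScalarRight k k Ω (Fin r)) hz0
      simp only [z, map_sum, TensorProduct.piScalarRight_apply, TensorProduct.piScalarRightHom_tmul, map_zero] at this
      have := congrFun this i
      simpa [Finset.sum_apply, Pi.single_apply] using this
    rw [aeval_eq_sum_range' hq, ← Fin.sum_univ_eq_sum_range (fun i => q.coeff i • M ^ i)] at h0
    have := Fintype.linearIndependent_iff.mp h1 _ h0
    ext i
    rcases lt_or_ge i r with hi | hi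
    · simpa using this ⟨i, hi⟩
    · rw [coeff_eq_zero_of_natDegree_lt (by omega), coeff_zero]
  have hev : ∀ α ∈ roots, ∃ w : Fin r → Ω, w ≠ 0 ∧ M.mulVec w = α • w := by
    intro α hα
    rw [Multiset.mem_toFinset, mem_roots'] at hα
    obtain ⟨q, hq⟩ := dvd_iff_isRoot.mpr hα.2
    have hq0 : q ≠ 0 := fun h => hα.1 (by rw [hq, h, mul_zero])
    have hqd : q.natDegree < r := by
      have := congrArg natDegree hq
      rw [natDegree_map, natDegree_mul (X_sub_C_ne_zero α) hq0, natDegree_X_sub_C, hdeg] at this
      omega
    obtain ⟨v, hv⟩ : ∃ v, (aeval M q).mulVec v ≠ 0 := by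
      by_contra! h
      exact hq0 (hli q hqd (Matrix.ext_iff_mulVec.mpr fun v => by rw [h v, Matrix.zero_mulVec]))
    refine ⟨_, hv, ?_⟩
    have h2 : (M - algebraMap Ω _ α) * aeval M q = 0 := by
      have := congrArg (aeval M) hq
      rw [hpM, map_mul, map_sub, aeval_X, aeval_C] at this
      exact this.symm
    have := congrArg (fun N => N.mulVec v) h2
    simpa [Matrix.sub_mul, Matrix.sub_mulVec, ← Matrix.mulVec_mulVec, ← Algebra.smul_def, Matrix.smul_mulVec,
      sub_eq_zero] using this
  choose w hw0 hw using fun a : roots => hev a.1 a.2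
  have hwli : LinearIndependent Ω w := Module.End.eigenvectors_linearIndependent' (Matrix.toLin' M) (fun a : roots => (a : Ω))
    Subtype.val_injective w fun a => ⟨Module.End.mem_eigenspace_iff.mpr (by rw [Matrix.toLin'_apply, hw]), hw0 a⟩
  rcases Nat.eq_zero_or_pos r with rfl | hr
  · exact (Submodule.finrank_le _).trans hA.le
  haveI : Nonempty roots := by
    obtain ⟨a, ha⟩ := Finset.card_pos.mp (hcard ▸ hr)
    exact ⟨⟨a, ha⟩⟩
  let bw := basisOfLinearIndependentOfCardEqFinrank hwli (by rw [Fintype.card_coe, hcard, Module.finrank_fin_fun])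
  have hbw : ∀ a, bw a = w a := fun a => by simp [bw]
  let C : Submodule Ω (Matrix (Fin r) (Fin r) Ω) := LinearMap.ker (LinearMap.mulLeft Ω M - LinearMap.mulRight Ω M)
  let Φ : C →ₗ[Ω] (roots → Ω) :=
    LinearMap.pi fun a => (bw.coord a).comp ((LinearMap.flip (Matrix.mulVecBilin Ω Ω) (w a)).comp C.subtype)
  have hΦ : Function.Injective Φ := by
    rw [← LinearMap.ker_eq_bot, LinearMap.ker_eq_bot']
    rintro ⟨X, hX⟩ h0
    have hcomm : M * X = X * M := sub_eq_zero.mp hX
    refine Subtype.ext ((Matrix.toLin' (R := Ω)).injective (bw.ext fun a => ?_))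
    rw [hbw, Matrix.toLin'_apply]
    simp only [Submodule.coe_zero, map_zero, LinearMap.zero_apply]
    have hy : M.mulVec (X.mulVec (w a)) = (a : Ω) • X.mulVec (w a) := by
      rw [Matrix.mulVec_mulVec, hcomm, ← Matrix.mulVec_mulVec, hw, Matrix.mulVec_smul]
    apply bw.repr.injective
    rw [map_zero]
    ext b
    rcases eq_or_ne b a with rfl | hne
    · exact congrFun h0 b
    have h1 : bw.repr (M.mulVec (X.mulVec (w a))) b = (b : Ω) * bw.repr (X.mulVec (w a)) b := by
      conv_lhs => rw [← bw.sum_repr (X.mulVec (w a))]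
      simp only [Matrix.mulVec_sum, Matrix.mulVec_smul, hbw, hw, smul_smul]
      simp only [← hbw, bw.repr_sum_self]
      ring
    rw [hy, map_smul, Finsupp.smul_apply, smul_eq_mul] at h1
    have : ((a : Ω) - (b : Ω)) * bw.repr (X.mulVec (w a)) b = 0 := by rw [sub_mul, h1, sub_self]
    exact (mul_eq_zero.mp this).resolve_left (sub_ne_zero.mpr fun h => hne (Subtype.ext h.symm))
  have hC : Module.finrank Ω C ≤ r := by
    have := LinearMap.finrank_le_finrank_of_injective hΦ
    rwa [Module.finrank_pi, Fintype.card_coe, hcard] at this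
  let K := LinearMap.ker (LinearMap.mulLeft k x - LinearMap.mulRight k x)
  let incl : Ω ⊗[k] K →ₗ[Ω] Matrix (Fin r) (Fin r) Ω := ψ.toLinearEquiv.toLinearMap.comp (K.subtype.baseChange Ω)
  have hincl : Function.Injective incl :=
    ψ.toLinearEquiv.injective.comp (Module.Flat.lTensor_preserves_injective_linearMap (M := Ω) K.subtype K.injective_subtype)
  have hle : LinearMap.range incl ≤ C := by
    rintro _ ⟨z, rfl⟩
    induction z using TensorProduct.induction_on with
    | zero => simp
    | tmul c y =>
      show M * ψ (c ⊗ₜ (y : A)) - ψ (c ⊗ₜ (y : A)) * M = 0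
      rw [show M = ψ (1 ⊗ₜ x) from rfl, ← map_mul, ← map_mul, Algebra.TensorProduct.tmul_mul_tmul,
        Algebra.TensorProduct.tmul_mul_tmul, one_mul, mul_one, sub_eq_zero]
      congr 2
      exact sub_eq_zero.mp y.2
    | add p q hp hq => rw [map_add]; exact add_mem hp hq
  have := (Submodule.finrank_mono hle).trans hC
  rwa [LinearMap.finrank_range_of_inj hincl, Module.finrank_baseChange] at this

theorem exists_regular [Algebra.IsCentral k A] [IsSimpleRing A] {r : ℕ} (hA : Module.finrank k A = r ^ 2) :
    ∃ x : A, (minpoly k x).Separable ∧ (minpoly k x).natDegree = r := by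
  classical
  obtain ⟨m, D, _, _, hm, hDc, ⟨e⟩⟩ := Br8.exists_division (Br8.isCSA (k := k) A)
  haveI := hDc.fd
  haveI := hDc.central
  obtain ⟨d, ⟨δ⟩⟩ := RN8.spl_exists (k := k) (A := D)
  have hrd : r = m * d := by
    have h := e.toLinearEquiv.finrank_eq
    rw [Module.finrank_matrix, Fintype.card_fin, hA, RN8.finrank_eq δ] at h
    exact Nat.pow_left_injective two_ne_zero (show r ^ 2 = (m * d) ^ 2 by rw [h]; ring)
  rcases finite_or_infinite k with hk | hk
  · -- over a finite field
    have hd : d = 1 := by
      rcases RN8.finite_or_deg_one δ with h | h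
      · exact (not_finite k).elim
      · rcases Nat.le_one_iff_eq_zero_or_eq_one.mp h with rfl | rfl
        · have hp : 0 < Module.finrank k D := Module.finrank_pos
          rw [RN8.finrank_eq δ] at hp; simp at hp
        · rfl
    subst hd
    rw [mul_one] at hrd
    subst hrd
    obtain ⟨q, _⟩ := CharP.exists k
    haveI : Fact q.Prime := ⟨CharP.char_is_prime k q⟩
    haveI : NeZero r := ⟨hm⟩
    let L := FiniteField.Extension k q r
    obtain ⟨α, hα⟩ := Field.exists_primitive_element k L
    have hαi : IsIntegral k α := Algebra.IsIntegral.isIntegral α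
    have hαd : (minpoly k α).natDegree = r := by
      rw [← IntermediateField.adjoin.finrank hαi, hα, IntermediateField.finrank_top', FiniteField.finrank_extension]
    have hαs : (minpoly k α).Separable := Algebra.IsSeparable.isSeparable k α
    let bL := Module.finBasisOfFinrankEq k L (FiniteField.finrank_extension k q r)
    let toD : Matrix (Fin r) (Fin r) k →ₐ[k] Matrix (Fin r) (Fin r) D := (Algebra.ofId k D).mapMatrix
    let φ : L →ₐ[k] A := e.symm.toAlgHom.comp (toD.comp (Algebra.leftMulMatrix bL))
    have hφ : Function.Injective φ := φ.toRingHom.injective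
    exact ⟨φ α, by rw [minpoly.algHom_eq φ hφ]; exact hαs, by rw [minpoly.algHom_eq φ hφ]; exact hαd⟩
  · -- over an infinite field
    obtain ⟨p, hirr, ι, hsep, hdeg, hfd, -⟩ := RN8.exists_separable_field δ 1
      (by rw [map_one, Matrix.det_one]; exact one_ne_zero)
    haveI := hfd
    let θ : D := ι (AdjoinRoot.root p)
    let q : Polynomial k := minpoly k θ
    have hθm : q = minpoly k (AdjoinRoot.root p) := minpoly.algHom_eq ι ι.toRingHom.injective _
    have hqi : Irreducible q := minpoly.irreducible (Algebra.IsIntegral.isIntegral θ)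
    have hqm : q.Monic := minpoly.monic (Algebra.IsIntegral.isIntegral θ)
    have hqs : q.Separable := by rw [hθm]; exact Algebra.IsSeparable.isSeparable k _
    have hqd : q.natDegree = d := by
      rw [hθm, AdjoinRoot.minpoly_root hirr.out.ne_zero, natDegree_mul_C (inv_ne_zero (leadingCoeff_ne_zero.mpr hirr.out.ne_zero))]
      rw [(AdjoinRoot.powerBasis hirr.out.ne_zero).finrank, AdjoinRoot.powerBasis_dim] at hdeg
      exact hdeg
    -- distinct translates
    let S : Finset (AlgebraicClosure k) := Finset.image₂ (fun a b => a - b) (q.aroots _).toFinset (q.aroots _).toFinset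
    let S' : Finset k := S.preimage (algebraMap k _) (algebraMap k (AlgebraicClosure k)).injective.injOn
    have hex : ∀ n : ℕ, ∃ c : Fin n → k, ∀ i j, i ≠ j → c i - c j ∉ S' := by
      intro n
      induction n with
      | zero => exact ⟨Fin.elim0, fun i => i.elim0⟩
      | succ n ih =>
        obtain ⟨c, hc⟩ := ih
        obtain ⟨t, ht⟩ := Infinite.exists_notMem_finset
          ((Finset.univ.biUnion fun i => S'.image fun s => c i + s) ∪ Finset.univ.biUnion fun i => S'.image fun s => c i - s)
        simp only [Finset.mem_union, Finset.mem_biUnion, Finset.mem_univ, true_and, Finset.mem_image, not_or, not_exists, not_and] at ht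
        refine ⟨Fin.snoc c t, fun i j hij => ?_⟩
        induction i using Fin.lastCases with
        | last =>
          induction j using Fin.lastCases with
          | last => exact absurd rfl hij
          | cast j => simp only [Fin.snoc_last, Fin.snoc_castSucc]; exact fun h => ht.1 j _ h (by ring)
        | cast i =>
          induction j using Fin.lastCases with
          | last => simp only [Fin.snoc_last, Fin.snoc_castSucc]; exact fun h => ht.2 i _ h (by ring)
          | cast j => simp only [Fin.snoc_castSucc]; exact hc i j fun h => hij (by rw [h])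
    obtain ⟨c, hc⟩ := hex m
    let qi : Fin m → Polynomial k := fun i => q.comp (X - C (c i))
    have hqi_eq : ∀ i, qi i = minpoly k (θ + algebraMap k D (c i)) := fun i => by
      rw [show θ + algebraMap k D (c i) = ι (AdjoinRoot.root p + algebraMap k (AdjoinRoot p) (c i)) by
        rw [map_add, AlgHom.commutes], minpoly.algHom_eq ι ι.toRingHom.injective, minpoly.add_algebraMap, ← hθm]
    have hirr' : ∀ i, Irreducible (qi i) := fun i => by
      rw [hqi_eq]; exact minpoly.irreducible (Algebra.IsIntegral.isIntegral _)
    have hmon' : ∀ i, (qi i).Monic := fun i => by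
      rw [hqi_eq]; exact minpoly.monic (Algebra.IsIntegral.isIntegral _)
    have hcop : Pairwise (Function.onFun IsCoprime qi) := fun i j hij => ((hirr' i).coprime_iff_not_dvd).mpr fun hdvd => by
      have heq := eq_of_monic_of_associated (hmon' i) (hmon' j) ((hirr' i).associated_of_dvd (hirr' j) hdvd)
      obtain ⟨β, hβ⟩ := IsAlgClosed.exists_aeval_eq_zero (AlgebraicClosure k) (qi i) (degree_pos_of_irreducible (hirr' i)).ne'
      have hβ' : aeval β (qi j) = 0 := heq ▸ hβ
      simp only [qi, aeval_comp, map_sub, aeval_X, aeval_C] at hβ hβ'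
      refine hc i j hij (Finset.mem_preimage.mpr (Finset.mem_image₂.mpr
        ⟨_, Multiset.mem_toFinset.mpr (mem_aroots.mpr ⟨hqm.ne_zero, hβ'⟩), _,
          Multiset.mem_toFinset.mpr (mem_aroots.mpr ⟨hqm.ne_zero, hβ⟩), by rw [map_sub]; ring⟩))
    let P := ∏ i, qi i
    have hPs : P.Separable := separable_prod hcop fun i => by
      show IsCoprime (qi i) (derivative (qi i))
      have h := IsCoprime.map hqs (compRingHom (X - C (c i)))
      simpa [qi, derivative_comp, coe_compRingHom] using h
    have hPm : P.Monic := monic_prod_of_monic _ _ fun i _ => hmon' i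
    let x₀ : Matrix (Fin m) (Fin m) D := Matrix.diagonal fun i => θ + algebraMap k D (c i)
    have hev : ∀ (f : Polynomial k), aeval x₀ f = Matrix.diagonal fun i => aeval (θ + algebraMap k D (c i)) f := fun f => by
      show aeval (Matrix.diagonalAlgHom k (fun i => θ + algebraMap k D (c i))) f = _
      rw [aeval_algHom_apply, aeval_pi]
      rfl
    have hP : minpoly k x₀ = P := by
      refine eq_of_monic_of_associated (minpoly.monic (Algebra.IsIntegral.isIntegral _)) hPm
        (associated_of_dvd_dvd (minpoly.dvd k _ ?_) ?_)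
      · rw [hev, ← Matrix.diagonal_zero]
        congr 1
        funext i
        show _ = (0 : D)
        obtain ⟨b, hb⟩ : qi i ∣ P := Finset.dvd_prod_of_mem qi (Finset.mem_univ i)
        rw [hb, map_mul, hqi_eq, minpoly.aeval, zero_mul]
      · refine Fintype.prod_dvd_of_coprime hcop fun i => ?_
        rw [hqi_eq]
        refine minpoly.dvd k _ ?_
        have := congrFun (congrFun ((hev _).symm.trans (minpoly.aeval k x₀)) i) i
        simpa using this
    refine ⟨e.symm x₀, ?_, ?_⟩
    · rw [show e.symm x₀ = e.symm.toAlgHom x₀ from rfl, minpoly.algHom_eq _ e.symm.injective, hP]; exact hPs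
    · rw [show e.symm x₀ = e.symm.toAlgHom x₀ from rfl, minpoly.algHom_eq _ e.symm.injective, hP,
        natDegree_prod_of_monic _ _ fun i _ => hmon' i]
      simp [qi, natDegree_comp, hqd, hrd]

end Groth.Agent.Az8
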