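import Groth.Agent.Az8.MaxEtale
import Groth.Agent.Az8.Loc
import Groth.Agent.CSA.Azumaya
import Groth.Agent.Br8.Period

set_option autoImplicit false
universe u

open scoped TensorProduct
open Polynomial

namespace Groth.Agent.Az8

variable {R : Type u} [CommRing R] {A : Type u} [Ring A] [Algebra R A]

theorem family_baseChange {ι : Type*} [Fintype ι] [DecidableEq ι] {M : Type*} [AddCommGroup M] [Module R M]
    (S : Type*) [CommRing S] [Algebra R S] (x : ι → M) (z : S ⊗[R] (ι → R)) :
    (Fintype.linearCombination R x).baseChange S z =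
      Fintype.linearCombination S (fun i => (1 : S) ⊗ₜ[R] x i) (TensorProduct.piScalarRight R S S ι z) := by
  induction z using TensorProduct.induction_on with
  | zero => simp
  | tmul c f =>
    simp only [TensorProduct.piScalarRight_apply, TensorProduct.piScalarRightHom_tmul, LinearMap.baseChange_tmul,
      Fintype.linearCombination_apply, TensorProduct.tmul_sum]
    refine Finset.sum_congr rfl fun i _ => ?_
    rw [TensorProduct.tmul_smul, TensorProduct.smul_tmul', TensorProduct.smul_tmul', smul_eq_mul, mul_one]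
  | add a b ha hb => rw [map_add, ha, hb, map_add, map_add]

theorem bij_iff {ι : Type*} [Fintype ι] [DecidableEq ι] {M : Type*} [AddCommGroup M] [Module R M]
    (S : Type*) [CommRing S] [Algebra R S] (x : ι → M) :
    Function.Bijective ((Fintype.linearCombination R x).baseChange S) ↔
      Function.Bijective (Fintype.linearCombination S (fun i => (1 : S) ⊗ₜ[R] x i)) := by
  rw [show ⇑((Fintype.linearCombination R x).baseChange S) =
    ⇑(Fintype.linearCombination S (fun i => (1 : S) ⊗ₜ[R] x i)) ∘ ⇑(TensorProduct.piScalarRight R S S ι) from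
      funext (family_baseChange S x)]
  exact Function.Bijective.of_comp_iff _ (TensorProduct.piScalarRight R S S ι).bijective

theorem surj_of_span {ι : Type*} [Fintype ι] {S M : Type*} [CommRing S] [AddCommGroup M] [Module S M] (x : ι → M)
    (h : Submodule.span S (Set.range x) = ⊤) : Function.Surjective (Fintype.linearCombination S x) := by
  rw [← LinearMap.range_eq_top, Fintype.range_linearCombination, h]

/-- the data over `R` which splits `A` after a base change -/
structure Data (R : Type u) [CommRing R] (A : Type u) [Ring A] [Algebra R A] (r : ℕ) where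
  p : Polynomial R
  monic : p.Monic
  deg : p.natDegree = r
  ξ : A
  root : aeval ξ p = 0
  v : Fin r → A
  q : Polynomial R
  s : R
  unit : p ∣ derivative p * q - C s

/-- the two families -/
def Data.x1 {r : ℕ} (D : Data R A r) : Fin r × Fin r → A := fun jl => D.v jl.1 * D.ξ ^ (jl.2 : ℕ)

def Data.x2 {r : ℕ} (D : Data R A r) : Fin r × (Fin r × Fin r) → (Fin r → A) :=
  fun im j => D.x1 im.2 * D.v j * D.ξ ^ (im.1 : ℕ)

theorem split_of_data {r : ℕ} (hr : 1 ≤ r) (D : Data R A r) (S : Type u) [CommRing S] [Algebra R S] [Nontrivial S]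
    (hs : IsUnit (algebraMap R S D.s))
    (h1 : Function.Bijective ((Fintype.linearCombination R D.x1).baseChange S))
    (h2 : Function.Surjective ((Fintype.linearCombination R D.x2).baseChange S)) :
    ∃ (R' : Type u) (_ : CommRing R') (_ : Algebra R R') (_ : Algebra S R') (_ : IsScalarTower R S R'),
      Module.Finite S R' ∧ Algebra.Etale S R' ∧ Module.FaithfullyFlat S R' ∧
        Nonempty ((R' ⊗[R] A) ≃ₐ[R'] Matrix (Fin r) (Fin r) R') := by
  classical
  let B := S ⊗[R] A
  let pS := D.p.map (algebraMap R S)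
  have hpS : pS.Monic := D.monic.map _
  have hpSd : pS.natDegree = r := by
    rw [← D.deg]; exact D.monic.natDegree_map _
  let E := AdjoinRoot pS
  let ξS : B := (1 : S) ⊗ₜ[R] D.ξ
  have h0 : aeval ξS pS = 0 := by
    rw [aeval_map_algebraMap, show ξS = (Algebra.TensorProduct.includeRight : A →ₐ[R] B) D.ξ from rfl,
      aeval_algHom_apply, D.root, map_zero]
  have hetale : Algebra.Etale S E := by
    refine etale_adjoinRoot hpS ?_
    obtain ⟨c, hc⟩ := D.unit
    have h := congrArg (fun f => aeval (AdjoinRoot.root pS) (f.map (algebraMap R S))) hc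
    simp only [Polynomial.map_sub, Polynomial.map_mul, Polynomial.map_C, map_sub, map_mul, aeval_C,
      ← derivative_map] at h
    rw [show aeval (AdjoinRoot.root pS) pS = 0 by rw [AdjoinRoot.aeval_eq, AdjoinRoot.mk_self], zero_mul, sub_eq_zero] at h
    exact isUnit_of_mul_isUnit_left (x := aeval (AdjoinRoot.root pS) (derivative pS)) (h ▸ hs.map (algebraMap S E))
  let pb := AdjoinRoot.powerBasis' hpS
  have hdim : pb.dim = r := hpSd
  haveI : Module.Finite S E := hpS.finite_adjoinRoot
  haveI : Module.Free S E := hpS.free_adjoinRoot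
  haveI : Nontrivial E := by
    apply Module.nontrivial_of_finrank_pos (R := S)
    rw [pb.finrank, hdim]; omega
  haveI : Module.FaithfullyFlat S E := inferInstance
  let u : E →ₐ[S] B := toAlg pS ξS h0
  have hu : ∀ l : ℕ, u (AdjoinRoot.root pS ^ l) = ξS ^ l := fun l => by
    rw [map_pow]
    congr 1
    show toAlg pS ξS h0 (AdjoinRoot.root pS) = ξS
    rw [← AdjoinRoot.mk_X, toAlg_mk, aeval_X]
  letI modEB : Module E B := rightModule u
  have hmod : ∀ (e : E) (b : B), e • b = b * u e := fun _ _ => rfl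
  haveI : IsScalarTower S E B := ⟨fun c l a => by rw [hmod, hmod, map_smul, mul_smul_comm]⟩
  haveI : SMulCommClass E S B := ⟨fun l c a => by rw [hmod, hmod, smul_mul_assoc]⟩
  have hL1 := (bij_iff S D.x1).mp h1
  let bS : Module.Basis (Fin r × Fin r) S B := Module.Basis.ofEquivFun (LinearEquiv.ofBijective _ hL1).symm
  have hbS : ∀ jl, bS jl = (1 : S) ⊗ₜ[R] D.x1 jl := fun jl => by
    simp [bS, Fintype.linearCombination_apply_single]
  let vS : Fin r → B := fun j => (1 : S) ⊗ₜ[R] D.v j
  have hkey : ∀ j l, AdjoinRoot.root pS ^ l • vS j = (1 : S) ⊗ₜ[R] (D.v j * D.ξ ^ l) := fun j l => by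
    rw [hmod, hu]
    show ((1 : S) ⊗ₜ[R] D.v j) * ((1 : S) ⊗ₜ[R] D.ξ) ^ l = _
    rw [Algebra.TensorProduct.tmul_pow, Algebra.TensorProduct.tmul_mul_tmul, one_pow, one_mul]
  let H : (Fin r → E) →ₗ[E] B := Fintype.linearCombination E vS
  let coords : (Fin r → E) ≃ₗ[S] (Fin r × Fin r → S) :=
    (LinearEquiv.piCongrRight fun _ => pb.basis.equivFun.trans (LinearEquiv.funCongrLeft S S (finCongr hdim.symm))).trans
      (LinearEquiv.curry S S (Fin r) (Fin r)).symm
  have hH : ∀ c, H c = Fintype.linearCombination S (fun i => (1 : S) ⊗ₜ[R] D.x1 i) (coords c) := fun c => by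
    simp only [H, Fintype.linearCombination_apply, Fintype.sum_prod_type]
    refine Finset.sum_congr rfl fun j _ => ?_
    conv_lhs => rw [← pb.basis.sum_repr (c j), Finset.sum_smul]
    refine (Fintype.sum_equiv (finCongr hdim) _ _ fun i => ?_)
    rw [smul_assoc, pb.basis_eq_pow, show pb.gen = AdjoinRoot.root pS from rfl, hkey]
    simp [coords, Data.x1]
  have hHb : Function.Bijective H := by
    rw [show (H : (Fin r → E) → B) = _ ∘ _ from funext hH]
    exact hL1.comp coords.bijective
  let vb : Module.Basis (Fin r) E B := Module.Basis.ofEquivFun (LinearEquiv.ofBijective H hHb).symm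
  have hvb : ∀ j, vb j = vS j := fun j => by simp [vb, H, Fintype.linearCombination_apply_single]
  let lam : B →ₐ[S] Module.End E B :=
    { toFun := fun a =>
        { toFun := fun y => a * y
          map_add' := mul_add a
          map_smul' := fun l y => by rw [RingHom.id_apply, hmod, hmod, mul_assoc] }
      map_one' := LinearMap.ext fun y => one_mul y
      map_mul' := fun a b => LinearMap.ext fun y => mul_assoc a b y
      map_zero' := LinearMap.ext fun y => zero_mul y
      map_add' := fun a b => LinearMap.ext fun y => add_mul a b y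
      commutes' := fun c => LinearMap.ext fun y => by
        show algebraMap S B c * y = _
        rw [← Algebra.smul_def]
        rfl }
  let Ψ : E ⊗[S] B →ₐ[E] Module.End E B :=
    Algebra.TensorProduct.lift (Algebra.ofId E (Module.End E B)) lam (fun l a => Algebra.commutes l (lam a))
  have hΨt : ∀ (l : E) (b y : B), Ψ (l ⊗ₜ b) y = b * y * u l := fun l b y => by
    simp only [Ψ, Algebra.TensorProduct.lift_tmul]
    exact hmod l (b * y)
  -- surjectivity
  have hspan : ∀ w : Fin r → B, ∃ z, ∀ j, Ψ z (vS j) = w j := by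
    intro w
    obtain ⟨z₀, hz₀⟩ := h2 ((TensorProduct.piRight R S S (fun _ : Fin r => A)).symm w)
    rw [family_baseChange, Fintype.linearCombination_apply] at hz₀
    generalize (TensorProduct.piScalarRight R S S (Fin r × Fin r × Fin r) z₀) = c at hz₀
    refine ⟨∑ im, c im • ((AdjoinRoot.root pS ^ (im.1 : ℕ)) ⊗ₜ[S] ((1 : S) ⊗ₜ[R] D.x1 im.2)), fun j => ?_⟩
    have := congrFun (congrArg (TensorProduct.piRight R S S (fun _ : Fin r => A)) hz₀) j
    rw [LinearEquiv.apply_symm_apply, map_sum, Finset.sum_apply] at this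
    rw [← this, map_sum, LinearMap.sum_apply]
    refine Finset.sum_congr rfl fun im _ => ?_
    rw [LinearEquiv.map_smul, Pi.smul_apply, TensorProduct.piRight_apply, TensorProduct.piRightHom_tmul]
    refine (congrArg (fun F : Module.End E B => F (vS j)) (LinearMap.map_smul_of_tower Ψ.toLinearMap (c im) _)).trans ?_
    rw [LinearMap.smul_apply, AlgHom.toLinearMap_apply, hΨt, hu]
    simp only [vS, ξS]
    rw [Algebra.TensorProduct.tmul_mul_tmul, Algebra.TensorProduct.tmul_pow, Algebra.TensorProduct.tmul_mul_tmul]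
    simp [Data.x2]
  have hΨs : Function.Surjective Ψ := fun F => by
    obtain ⟨z, hz⟩ := hspan fun j => F (vS j)
    exact ⟨z, vb.ext fun j => by rw [hvb]; exact hz j⟩
  let eM : Module.End E B ≃ₐ[E] Matrix (Fin r) (Fin r) E := LinearMap.toMatrixAlgEquiv vb
  let e1 : (E ⊗[S] B) ≃ₗ[E] Matrix (Fin r) (Fin r) E :=
    (bS.baseChange E).equiv (Matrix.stdBasis E (Fin r) (Fin r)) (Equiv.refl _)
  have hΦ : Function.Bijective (eM.toAlgHom.comp Ψ) := by
    have hs' : Function.Surjective (eM.toAlgHom.comp Ψ) := eM.surjective.comp hΨs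
    refine ⟨?_, hs'⟩
    have hinj : Function.Injective ((eM.toAlgHom.comp Ψ).toLinearMap ∘ₗ e1.symm.toLinearMap) :=
      OrzechProperty.injective_of_surjective_endomorphism _ (hs'.comp e1.symm.surjective)
    intro a b hab
    obtain ⟨a', rfl⟩ := e1.symm.surjective a
    obtain ⟨b', rfl⟩ := e1.symm.surjective b
    exact congrArg _ (hinj hab)
  let c₀ : E ⊗[R] A →ₐ[E] E ⊗[S] B := Algebra.TensorProduct.lift (Algebra.ofId E _)
    (((Algebra.TensorProduct.includeRight : B →ₐ[S] E ⊗[S] B).restrictScalars R).comp Algebra.TensorProduct.includeRight)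
    (fun x y => Algebra.commutes x _)
  have hc₀ : Function.Bijective c₀ := by
    rw [show (c₀ : E ⊗[R] A → E ⊗[S] B) = ⇑(TensorProduct.AlgebraTensorModule.cancelBaseChange R S E E A).symm from
      funext fun z => by
        induction z using TensorProduct.induction_on with
        | zero => simp
        | tmul x y =>
          show algebraMap E (E ⊗[S] B) x * ((1 : E) ⊗ₜ[S] ((1 : S) ⊗ₜ[R] y)) = _
          simp [Algebra.TensorProduct.algebraMap_apply]
        | add a b ha hb => rw [map_add, map_add, ha, hb]]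
    exact LinearEquiv.bijective _
  let c := (AlgEquiv.ofBijective c₀ hc₀).symm
  exact ⟨E, inferInstance, inferInstance, inferInstance, inferInstance, inferInstance, hetale, inferInstance,
    ⟨c.symm.trans (AlgEquiv.ofBijective _ hΦ)⟩⟩

theorem exists_rank (p : Ideal R) [p.IsPrime] [IsAzumaya R A] :
    ∃ r, 1 ≤ r ∧ Module.finrank (Localization.AtPrime p) (Localization.AtPrime p ⊗[R] A) = r ^ 2 := by
  let Rp := Localization.AtPrime p
  haveI : IsAzumaya Rp (Rp ⊗[R] A) := CSA.Azumaya.baseChange R Rp A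
  haveI : Module.Free Rp (Rp ⊗[R] A) := Module.free_of_flat_of_isLocalRing
  haveI := nontrivial_fibre (R := Rp) (A := Rp ⊗[R] A)
  obtain ⟨_, _⟩ := Dix.Azumaya.fibre_centralSimple Rp (Rp ⊗[R] A) (IsLocalRing.ResidueField Rp)
  obtain ⟨n, hn, hn2, -⟩ := Br8.exists_deg (Br8.isCSA (k := IsLocalRing.ResidueField Rp)
    (IsLocalRing.ResidueField Rp ⊗[Rp] (Rp ⊗[R] A)))
  rw [Module.finrank_baseChange] at hn2
  exact ⟨n, Nat.pos_of_ne_zero hn, hn2⟩

theorem exists_data (p : Ideal R) [p.IsPrime] [IsAzumaya R A] : ∃ (r : ℕ) (_ : 1 ≤ r) (D : Data R A r), D.s ∉ p ∧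
    Function.Bijective ((Fintype.linearCombination R D.x1).baseChange (Localization.AtPrime p)) ∧
    Function.Bijective ((Fintype.linearCombination R D.x2).baseChange (Localization.AtPrime p)) := by
  classical
  obtain ⟨r, hr, hA⟩ := exists_rank (A := A) p
  let Rp := Localization.AtPrime p
  let B := Rp ⊗[R] A
  haveI : IsAzumaya Rp B := CSA.Azumaya.baseChange R Rp A
  haveI : Module.Free Rp B := Module.free_of_flat_of_isLocalRing
  let κ := IsLocalRing.ResidueField Rp
  let ι : A →ₐ[R] B := Algebra.TensorProduct.includeRight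
  have hunit : ∀ s ∉ p, IsUnit (algebraMap R Rp s) := fun s hs => IsLocalization.map_units Rp (⟨s, hs⟩ : p.primeCompl)
  have htransfer : ∀ (x : κ ⊗[Rp] B) (c : κ), c ≠ 0 →
      (minpoly κ x).Separable ∧ (minpoly κ x).natDegree = r → (minpoly κ (c • x)).Separable ∧ (minpoly κ (c • x)).natDegree = r := by
    intro x c hc hx
    have hadj : Algebra.adjoin κ ({c • x} : Set (κ ⊗[Rp] B)) = Algebra.adjoin κ {x} := by
      refine le_antisymm (Algebra.adjoin_le (Set.singleton_subset_iff.mpr
        (Subalgebra.smul_mem _ (Algebra.self_mem_adjoin_singleton κ x) c))) (Algebra.adjoin_le (Set.singleton_subset_iff.mpr ?_))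
      have h := Subalgebra.smul_mem _ (Algebra.self_mem_adjoin_singleton κ (c • x)) c⁻¹
      rwa [inv_smul_smul₀ hc] at h
    have hsx := isSeparable_adjoin x hx.1
    rw [← hadj] at hsx
    exact ⟨minpoly_separable_of_adjoin _ hsx, by rw [← finrank_adjoin (c • x), hadj, finrank_adjoin x, hx.2]⟩
  -- a regular element from `A`
  obtain ⟨ξ₀, hξ₀⟩ := exists_section (R := Rp) (A := B) hA
  obtain ⟨s₀, a, hs₀, ha⟩ := exists_scale p ξ₀
  have hres : ∀ t : Rp, (1 : κ) ⊗ₜ[Rp] (t • ξ₀) = IsLocalRing.residue Rp t • ((1 : κ) ⊗ₜ[Rp] ξ₀) := fun t => by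
    rw [TensorProduct.tmul_smul]
    exact (IsScalarTower.algebraMap_smul κ t _).symm
  have hne : ∀ t : Rp, IsUnit t → IsLocalRing.residue Rp t ≠ 0 := fun t ht => (ht.map (IsLocalRing.residue Rp)).ne_zero
  have hreg_a := htransfer _ _ (hne _ (hunit s₀ hs₀)) hξ₀
  rw [← hres, ha] at hreg_a
  -- the polynomial
  obtain ⟨P, hP, hPd, hP0⟩ := exists_poly hA _ hreg_a.1 hreg_a.2
  obtain ⟨t, ht⟩ := IsLocalization.exist_integer_multiples_of_finite p.primeCompl (fun i : Fin r => P.coeff i)
  choose e he using ht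
  let c : R[X] := X ^ r + ∑ i : Fin r, C ((t : R) ^ (r - 1 - i) * e i) * X ^ (i : ℕ)
  have hPe : P = X ^ r + ∑ i : Fin r, C (P.coeff i) * X ^ (i : ℕ) := by
    conv_lhs => rw [hP.as_sum, hPd]
    rw [Fin.sum_univ_eq_sum_range (fun i => C (P.coeff i) * X ^ i)]
  have hc0 : (1 : Rp) ⊗ₜ[R] (aeval ((t : R) • a) c) = 0 := by
    have h := congrArg (fun z => (algebraMap R Rp t) ^ r • z) (show aeval ((1 : Rp) ⊗ₜ[R] a) P = 0 from hP0)
    simp only [smul_zero] at h
    rw [hPe, map_add, map_sum, smul_add, Finset.smul_sum] at h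
    show ι (aeval ((t : R) • a) c) = 0
    rw [← aeval_algHom_apply, map_smul]
    simp only [c, map_add, map_sum, map_mul, map_pow, aeval_X, aeval_C]
    refine Eq.trans ?_ h
    congr 1
    · simp only [map_pow, aeval_X, ← _root_.smul_pow, algebraMap_smul]
      rfl
    · refine Finset.sum_congr rfl fun i _ => ?_
      rw [map_mul, aeval_C, map_pow, aeval_X]
      show _ = (algebraMap R Rp t) ^ r • (algebraMap Rp B (P.coeff i) * ι a ^ (i : ℕ))
      rw [← Algebra.smul_def, smul_smul, _root_.smul_pow, ← map_pow (algebraMap R B), ← map_mul (algebraMap R B),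
        ← Algebra.smul_def, smul_smul, ← IsScalarTower.algebraMap_smul Rp]
      congr 1
      have hei : algebraMap R Rp (e i) = algebraMap R Rp (t : R) * P.coeff i := by rw [← Algebra.smul_def]; exact he i
      simp only [map_mul, map_pow, hei]
      rw [show algebraMap R Rp (t : R) ^ r = algebraMap R Rp (t : R) ^ (r - 1 - i) * algebraMap R Rp (t : R) *
        algebraMap R Rp (t : R) ^ (i : ℕ) by rw [← pow_succ, ← pow_add]; congr 1; have := i.2; omega]
      ring
  obtain ⟨s₁, hs₁, hs₁'⟩ := exists_kill p (hc0.trans (TensorProduct.tmul_zero A (1 : Rp)).symm)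
  rw [smul_zero] at hs₁'
  let ξ : A := s₁ • ((t : R) • a)
  let q₀ : R[X] := X ^ r + ∑ i : Fin r, C (s₁ ^ (r - (i : ℕ)) * ((t : R) ^ (r - 1 - i) * e i)) * X ^ (i : ℕ)
  have hdeg : (∑ i : Fin r, C (s₁ ^ (r - (i : ℕ)) * ((t : R) ^ (r - 1 - i) * e i)) * X ^ (i : ℕ)).degree < (r : WithBot ℕ) := by
    refine (degree_sum_le _ _).trans_lt ((Finset.sup_lt_iff (WithBot.bot_lt_coe r)).mpr fun i _ => ?_)
    exact (degree_C_mul_X_pow_le _ _).trans_lt (WithBot.coe_lt_coe.mpr i.2)
  have hq₀ : q₀.Monic := monic_X_pow_add hdeg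
  have hq₀d : q₀.natDegree = r := natDegree_eq_of_degree_eq_some (by
    rcases subsingleton_or_nontrivial R with hR | hR
    · exact absurd (Subsingleton.elim (1 : R) 0 ▸ p.zero_mem) ((Ideal.ne_top_iff_one p).mp ‹p.IsPrime›.ne_top)
    · rw [degree_add_eq_left_of_degree_lt (by rw [degree_X_pow]; exact hdeg), degree_X_pow])
  have hroot : aeval ξ q₀ = 0 := by
    have hexp : aeval ξ q₀ = s₁ ^ r • aeval ((t : R) • a) c := by
      simp only [q₀, c, ξ, map_add, map_sum, map_mul, map_pow, aeval_X, aeval_C, smul_add, Finset.smul_sum, _root_.smul_pow]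
      congr 1
      refine Finset.sum_congr rfl fun i _ => ?_
      simp only [← map_pow, ← map_mul, ← Algebra.smul_def, smul_smul]
      congr 1
      rw [show s₁ ^ r = s₁ ^ (r - (i : ℕ)) * s₁ ^ (i : ℕ) by rw [← pow_add]; congr 1; have := i.2; omega]
      ring
    rw [hexp, show r = (r - 1) + 1 by omega, pow_succ, mul_smul, hs₁', smul_zero]
  have hξB : (1 : Rp) ⊗ₜ[R] ξ = algebraMap R Rp (s₁ * (t : R)) • ((1 : Rp) ⊗ₜ[R] a) := by
    simp only [ξ, smul_smul, TensorProduct.tmul_smul, algebraMap_smul]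
  have hres2 : ∀ (u : Rp) (z : B), (1 : κ) ⊗ₜ[Rp] (u • z) = IsLocalRing.residue Rp u • ((1 : κ) ⊗ₜ[Rp] z) := fun u z => by
    rw [TensorProduct.tmul_smul]
    exact (IsScalarTower.algebraMap_smul κ u _).symm
  have hreg := htransfer _ _ (hne _ (hunit (s₁ * (t : R)) (p.primeCompl.mul_mem hs₁ t.2))) hreg_a
  rw [← hres2, ← hξB] at hreg
  have h0B : aeval ((1 : Rp) ⊗ₜ[R] ξ) (q₀.map (algebraMap R Rp)) = 0 := by
    rw [aeval_map_algebraMap, show (1 : Rp) ⊗ₜ[R] ξ = ι ξ from rfl, aeval_algHom_apply, hroot, map_zero]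
  let P' := q₀.map (algebraMap R Rp)
  have hP'd : P'.natDegree = r := by rw [show P' = q₀.map _ from rfl, hq₀.natDegree_map, hq₀d]
  let E := AdjoinRoot P'
  have hP'm : P'.Monic := hq₀.map _
  let u : E →ₐ[Rp] B := toAlg P' _ h0B
  have hu := toAlg_fibre_injective _ hreg.2 hP'm hP'd h0B
  haveI : Module.Finite Rp E := hP'm.finite_adjoinRoot
  haveI : Module.Free Rp E := hP'm.free_adjoinRoot
  have hunitd := isUnit_derivative hP'm (separable_residue _ hreg.1 hreg.2 hP'm hP'd h0B)
  haveI : Algebra.Etale Rp E := etale_adjoinRoot hP'm hunitd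
  have hE : Module.finrank Rp E = r := by rw [(AdjoinRoot.powerBasis' hP'm).finrank]; exact hP'd
  letI : Module E B := rightModule u
  have hmod : ∀ (x : E) (b : B), x • b = b * u x := fun _ _ => rfl
  obtain ⟨hfree, hrank, -⟩ := Groth.Agent.S5711.result Rp B r hA E hE u hu hmod
  haveI := hfree
  haveI : IsScalarTower Rp E B := ⟨fun c l a => by rw [hmod, hmod, map_smul, mul_smul_comm]⟩
  haveI : Module.Finite E B := Module.Finite.of_restrictScalars_finite Rp E B
  haveI : Nontrivial E := Module.nontrivial_of_finrank_pos (R := Rp) (by rw [hE]; omega)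
  let v₀ : Module.Basis (Fin r) E B := Module.finBasisOfFinrankEq E B hrank
  obtain ⟨s₂, v, hs₂, hv⟩ := exists_scale_family p v₀
  let w : Rpˣ := (hunit s₂ hs₂).unit
  let vb : Module.Basis (Fin r) E B := v₀.unitsSMul fun _ => Units.map (algebraMap Rp E).toMonoidHom w
  have hvb : ∀ j, vb j = (1 : Rp) ⊗ₜ[R] v j := fun j => by
    rw [Module.Basis.unitsSMul_apply, Units.smul_def, Units.coe_map, RingHom.toMonoidHom_eq_coe, MonoidHom.coe_coe,
      algebraMap_smul, ← hv j]
    rfl
  -- the derivative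
  obtain ⟨q', hq'⟩ := AdjoinRoot.mk_surjective (↑hunitd.unit⁻¹ : E)
  obtain ⟨t₃, ht₃⟩ := IsLocalization.exist_integer_multiples p.primeCompl (q'.support) (fun i => q'.coeff i)
  choose e₃ he₃ using ht₃
  obtain ⟨q₁, hq₁⟩ : ∃ q₁ : R[X], q₁.map (algebraMap R Rp) = C (algebraMap R Rp t₃) * q' := by
    refine ⟨∑ i ∈ q'.support.attach, monomial i.1 (e₃ i.1 i.2), ?_⟩
    ext n
    rw [coeff_map, coeff_C_mul, finset_sum_coeff, map_sum]
    simp only [coeff_monomial]
    by_cases hn : n ∈ q'.support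
    · rw [Finset.sum_eq_single ⟨n, hn⟩ (fun i _ hi => by rw [if_neg fun h => hi (Subtype.ext h), map_zero]) (by simp),
        if_pos rfl, he₃ n hn, Algebra.smul_def]
    · rw [Finset.sum_eq_zero fun i _ => by rw [if_neg fun h => hn (by rw [← h]; exact i.2), map_zero],
        notMem_support_iff.mp hn, mul_zero]
  let rem : R[X] := (derivative q₀ * q₁ - C (t₃ : R)) %ₘ q₀
  have hrem : rem.map (algebraMap R Rp) = 0 := by
    rw [show rem = _ %ₘ q₀ from rfl, map_modByMonic _ hq₀, (modByMonic_eq_zero_iff_dvd hP'm), Polynomial.map_sub,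
      Polynomial.map_mul, ← derivative_map, hq₁, Polynomial.map_C, ← AdjoinRoot.mk_eq_zero, map_sub, map_mul, map_mul,
      hq', ← AdjoinRoot.aeval_eq (derivative P'), mul_left_comm]
    rw [IsUnit.mul_val_inv, mul_one, sub_self]
  obtain ⟨t₄, ht₄, hkill⟩ : ∃ t₄ ∉ p, C t₄ * rem = 0 := by
    have hm : ∀ i, ∃ m : p.primeCompl, (m : R) * rem.coeff i = 0 := fun i => by
      have := congrArg (fun f => f.coeff i) hrem
      simp only [coeff_map, coeff_zero] at this
      exact (IsLocalization.map_eq_zero_iff p.primeCompl Rp _).mp this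
    choose m hm using hm
    refine ⟨∏ i ∈ rem.support, (m i : R), fun h => (Ideal.IsPrime.prod_mem_iff.mp h).elim fun i hi => (m i).2 hi.2, ?_⟩
    ext i
    rw [coeff_C_mul, coeff_zero]
    by_cases hi : i ∈ rem.support
    · rw [← Finset.prod_erase_mul _ _ hi, mul_assoc, hm, mul_zero]
    · rw [notMem_support_iff.mp hi, mul_zero]
  have hdvd : q₀ ∣ derivative q₀ * (C t₄ * q₁) - C (t₄ * (t₃ : R)) := by
    refine ⟨C t₄ * ((derivative q₀ * q₁ - C (t₃ : R)) /ₘ q₀), ?_⟩
    have h := modByMonic_add_div (p := derivative q₀ * q₁ - C (t₃ : R)) q₀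
    rw [C_mul]
    linear_combination (-(C t₄)) * h + hkill
  let D : Data R A r := ⟨q₀, hq₀, hq₀d, ξ, hroot, v, C t₄ * q₁, t₄ * (t₃ : R), hdvd⟩
  refine ⟨r, hr, D, p.primeCompl.mul_mem ht₄ t₃.2, ?_⟩
  let pbE := AdjoinRoot.powerBasis' hP'm
  have hdimE : pbE.dim = r := hP'd
  let eB : Module.Basis (Fin r × Fin r) Rp B :=
    ((pbE.basis.reindex (finCongr hdimE)).smulTower vb).reindex (Equiv.prodComm _ _)
  have hu' : ∀ i : Fin r, u ((pbE.basis.reindex (finCongr hdimE)) i) = ((1 : Rp) ⊗ₜ[R] ξ) ^ (i : ℕ) := fun i => by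
    rw [Module.Basis.reindex_apply, pbE.basis_eq_pow, map_pow]
    congr 1
    show toAlg P' _ h0B (AdjoinRoot.root P') = _
    rw [← AdjoinRoot.mk_X, toAlg_mk, aeval_X]
  have heB : ∀ jl, eB jl = (1 : Rp) ⊗ₜ[R] D.x1 jl := fun jl => by
    simp only [eB, Module.Basis.reindex_apply, Module.Basis.smulTower_apply, Equiv.prodComm_symm, Equiv.prodComm_apply,
      Prod.fst_swap, Prod.snd_swap, hmod]
    rw [hvb, show u (pbE.basis ((finCongr hdimE).symm jl.2)) = ((1 : Rp) ⊗ₜ[R] ξ) ^ (jl.2 : ℕ) by
      rw [← Module.Basis.reindex_apply]; exact hu' jl.2]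
    rw [Algebra.TensorProduct.tmul_pow, Algebra.TensorProduct.tmul_mul_tmul]
    simp [D, Data.x1]
  have hb1 : Function.Bijective ((Fintype.linearCombination R D.x1).baseChange Rp) := by
    rw [bij_iff, show (fun i => (1 : Rp) ⊗ₜ[R] D.x1 i) = eB from funext fun i => (heB i).symm]
    exact ⟨eB.linearIndependent.fintypeLinearCombination_injective, surj_of_span _ eB.span_eq⟩
  refine ⟨hb1, ?_⟩
  rw [bij_iff]
  let T : (Fin r × (Fin r × Fin r) → Rp) →ₗ[Rp] (Fin r → B) :=
    (TensorProduct.piRight R Rp Rp (fun _ : Fin r => A)).toLinearMap ∘ₗ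
      Fintype.linearCombination Rp (fun i => (1 : Rp) ⊗ₜ[R] D.x2 i)
  have hT : Function.Surjective T := by
    rw [← LinearMap.range_eq_top, eq_top_iff]
    intro w _
    refine (Submodule.span_le.mpr ?_) (lam_span hA hE u hu hmod hrank vb w)
    rintro _ ⟨⟨x, b⟩, rfl⟩
    show (fun j => b * vb j * u x) ∈ LinearMap.range T
    rw [show (fun j => b * vb j * u x) = ∑ i, ∑ m, (((pbE.basis.reindex (finCongr hdimE)).repr x) i * eB.repr b m) •
        (fun j => eB m * vb j * ((1 : Rp) ⊗ₜ[R] ξ) ^ (i : ℕ)) from funext fun j => by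
      conv_lhs => rw [← (pbE.basis.reindex (finCongr hdimE)).sum_repr x, ← eB.sum_repr b]
      simp only [map_sum, map_smul, hu', Finset.sum_mul, Finset.mul_sum, smul_mul_assoc, mul_smul_comm, smul_smul,
        Finset.sum_apply, Pi.smul_apply, Finset.smul_sum]]
    refine sum_mem fun i _ => sum_mem fun m _ => Submodule.smul_mem _ _ ⟨Pi.single (i, m) 1, ?_⟩
    funext j
    simp only [T, LinearMap.comp_apply, LinearEquiv.coe_coe, Fintype.linearCombination_apply_single, one_smul,
      TensorProduct.piRight_apply, TensorProduct.piRightHom_tmul]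
    rw [heB, hvb]
    simp [D, Data.x2, Data.x1]
    rw [Algebra.TensorProduct.tmul_mul_tmul, Algebra.TensorProduct.tmul_pow, Algebra.TensorProduct.tmul_mul_tmul]
    simp
  let eT : (Fin r → B) ≃ₗ[Rp] (Fin r × (Fin r × Fin r) → Rp) :=
    (LinearEquiv.piCongrRight fun _ => eB.equivFun).trans (LinearEquiv.curry Rp Rp (Fin r) (Fin r × Fin r)).symm
  have hTi : Function.Injective T := fun a b hab =>
    OrzechProperty.injective_of_surjective_endomorphism (eT.toLinearMap ∘ₗ T) (eT.surjective.comp hT) (congrArg eT hab)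
  exact (Function.Bijective.of_comp_iff' (TensorProduct.piRight R Rp Rp (fun _ : Fin r => A)).bijective _).mp ⟨hTi, hT⟩

theorem exists_split (p : Ideal R) [p.IsPrime] [IsAzumaya R A] :
    ∃ f : R, f ∉ p ∧ ∃ (R' : Type u) (_ : CommRing R') (_ : Algebra R R') (_ : Algebra (Localization.Away f) R')
      (_ : IsScalarTower R (Localization.Away f) R'), Module.Finite (Localization.Away f) R' ∧
        Algebra.Etale (Localization.Away f) R' ∧ Module.FaithfullyFlat (Localization.Away f) R' ∧
          ∃ r : ℕ, 1 ≤ r ∧ Nonempty ((R' ⊗[R] A) ≃ₐ[R'] Matrix (Fin r) (Fin r) R') := by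
  classical
  haveI := Module.finitePresentation_of_projective R A
  obtain ⟨r, hr, D, hs, h1, h2⟩ := exists_data (A := A) p
  obtain ⟨f1, hf1, g1⟩ := exists_away p _ h1
  obtain ⟨f2, hf2, g2⟩ := exists_away p _ h2
  let f := f1 * f2 * D.s
  have hf : f ∉ p := p.primeCompl.mul_mem (p.primeCompl.mul_mem hf1 hf2) hs
  have hs' : IsUnit (algebraMap R (Localization.Away f) D.s) :=
    isUnit_of_dvd_unit (map_dvd _ (dvd_mul_left _ _)) (IsLocalization.Away.algebraMap_isUnit f)
  haveI : Nontrivial (Localization.Away f) :=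
    (IsLocalization.Away.lift f (g := algebraMap R (Localization.AtPrime p))
      (IsLocalization.map_units (Localization.AtPrime p) (⟨f, hf⟩ : p.primeCompl)) :
        Localization.Away f →+* Localization.AtPrime p).domain_nontrivial
  obtain ⟨R', i1, i2, i3, i4, h5, h6, h7, h8⟩ := split_of_data hr D (Localization.Away f) hs'
    (g1 f ⟨f2 * D.s, by ring⟩) (g2 f ⟨f1 * D.s, by ring⟩).2
  exact ⟨f, hf, R', i1, i2, i3, i4, h5, h6, h7, r, hr, h8⟩

end Groth.Agent.Az8
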