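import Mathlib
import Groth.Agent.CSA.Azumaya

set_option autoImplicit false
universe u v

open scoped TensorProduct

namespace Groth.Agent.Az8

variable (R : Type u) [CommRing R] (A : Type v) [Ring A] [Algebra R A]

/-- split off the last factor -/
noncomputable def tpSuccL (e : ℕ) : (⨂[R] _ : Fin (e + 1), A) ≃ₗ[R] (⨂[R] _ : Fin e, A) ⊗[R] A :=
  (PiTensorProduct.reindex R (fun _ : Fin (e + 1) => A) (finSumFinEquiv (m := e) (n := 1)).symm).trans
    ((PiTensorProduct.tmulEquiv R A).symm.trans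
      (TensorProduct.congr (LinearEquiv.refl R _) (PiTensorProduct.subsingletonEquiv (0 : Fin 1))))

lemma tpSuccL_tprod (e : ℕ) (a : Fin (e + 1) → A) :
    tpSuccL R A e (PiTensorProduct.tprod R a) =
      PiTensorProduct.tprod R (fun i => a (Fin.castAdd 1 i)) ⊗ₜ a (Fin.natAdd e 0) := by
  simp [tpSuccL]

noncomputable def tpSucc (e : ℕ) : (⨂[R] _ : Fin (e + 1), A) ≃ₐ[R] (⨂[R] _ : Fin e, A) ⊗[R] A :=
  AlgEquiv.ofLinearEquiv (tpSuccL R A e)
    (by rw [PiTensorProduct.one_def, tpSuccL_tprod]; rfl)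
    (LinearMap.map_mul_iff (tpSuccL R A e).toLinearMap |>.mpr <| by
      ext a b
      simp only [LinearMap.compr₂_apply, LinearMap.compMultilinearMap_apply, LinearMap.compl₂_apply,
        LinearMap.comp_apply, LinearMap.mul_apply', LinearEquiv.coe_coe, PiTensorProduct.tprod_mul_tprod,
        tpSuccL_tprod, Algebra.TensorProduct.tmul_mul_tmul]
      rfl)

noncomputable def tpZero : (⨂[R] _ : Fin 0, A) ≃ₐ[R] R :=
  AlgEquiv.ofLinearEquiv (PiTensorProduct.isEmptyEquiv (Fin 0))
    (by rw [PiTensorProduct.one_def]; simp)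
    (fun x y => by
      let e := (PiTensorProduct.isEmptyEquiv (Fin 0) : (⨂[R] _ : Fin 0, A) ≃ₗ[R] R)
      have he1 : e 1 = 1 := by rw [PiTensorProduct.one_def]; simp [e]
      have hone : ∀ z : (⨂[R] _ : Fin 0, A), z = e z • (1 : ⨂[R] _ : Fin 0, A) := fun z => e.injective (by
        rw [map_smul, he1, smul_eq_mul, mul_one])
      show e (x * y) = e x * e y
      conv_lhs => rw [hone x, hone y]
      rw [smul_mul_smul_comm, one_mul, map_smul, he1, smul_eq_mul, mul_one])

theorem tp_azumaya [IsAzumaya R A] (e : ℕ) : IsAzumaya R (⨂[R] _ : Fin e, A) := by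
  induction e with
  | zero => exact IsAzumaya.of_AlgEquiv R _ _ (tpZero R A).symm
  | succ e ih =>
    haveI := ih
    haveI := CSA.Azumaya.tensorProduct R (⨂[R] _ : Fin e, A) A
    exact IsAzumaya.of_AlgEquiv R _ _ (tpSucc R A e).symm

end Groth.Agent.Az8
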